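import Cfsg.Agent.SolvStruct.Zassenhaus.RegularCore
import Cfsg.Agent.SolvStruct.Zassenhaus.Rep
import Cfsg.Agent.SolvStruct.QuaternionSylowSection
import Cfsg.Agent.S0685

/-!
Solvable linear groups regular on non-zero vectors: semilinearity from an irreducible cyclic normal subgroup,
and the quotients of the exceptional groups.
-/

set_option autoImplicit false
set_option linter.unusedSectionVars false
set_option linter.style.haveILetI false

namespace Cfsg.Lib.SolvableRegular

open Subgroup Cfsg.Lib.PermGroups.LinearRegular Cfsg.Lib.SolvStruct.Zassenhaus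

variable {p : ℕ} [Fact p.Prime] {V : Type*} [AddCommGroup V] [Module (ZMod p) V] [Finite V]
  {H : Subgroup (V ≃ₗ[ZMod p] V)}

/-- A type with `n` elements carrying no algebraic structure of its own. -/
def Car (n : ℕ) : Type := Fin n

instance (n : ℕ) : Fintype (Car n) := inferInstanceAs (Fintype (Fin n))

/-- An irreducible cyclic normal subgroup makes the group semilinear over the field it generates. -/
theorem semilinear [Nontrivial V] (A : Subgroup H) [A.Normal] (hA : IsCyclic A)
    (hirr : ∀ W : Submodule (ZMod p) V, (∀ a ∈ A, ∀ v ∈ W, ((a : H) : V ≃ₗ[ZMod p] V) v ∈ W) → W = ⊥ ∨ W = ⊤) :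
    ∃ (F : Type) (_ : Field F) (_ : Fintype F) (e : V ≃+ F),
      ∀ h : H, ∃ (a : F) (σ : F ≃+* F), ∀ v : V, e ((h : V ≃ₗ[ZMod p] V) v) = a * σ (e v) := by
  classical
  obtain ⟨⟨a, ha⟩, hgen⟩ := IsCyclic.exists_generator (α := A)
  let T : Module.End (ZMod p) V := (a : V ≃ₗ[ZMod p] V).toLinearMap
  let K := Algebra.adjoin (ZMod p) ({T} : Set (Module.End (ZMod p) V))
  letI : CommRing K := Algebra.adjoinCommRingOfComm (ZMod p) (s := {T}) (by
    rintro x hx y hy
    rw [Set.mem_singleton_iff] at hx hy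
    rw [hx, hy])
  haveI : Finite (Module.End (ZMod p) V) :=
    Finite.of_injective (fun f : Module.End (ZMod p) V => (f : V → V)) DFunLike.coe_injective
  have hTK : T ∈ K := Algebra.subset_adjoin rfl
  have hpow : ∀ i : ℕ, ∀ v, ((a ^ i : H) : V ≃ₗ[ZMod p] V) v = (T ^ i) v := by
    intro i
    induction i with
    | zero => intro v; rfl
    | succ i ih =>
      intro v
      rw [pow_succ', pow_succ', Module.End.mul_apply, ← ih]
      rfl
  haveI := finite_lin (p := p) (V := V)
  have hAT : ∀ x ∈ A, ∃ i : ℕ, x = a ^ i := by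
    intro x hx
    obtain ⟨i, hi⟩ := (Submonoid.mem_powers_iff _ _).1 (mem_powers_iff_mem_zpowers.2 (hgen ⟨x, hx⟩))
    exact ⟨i, (congrArg Subtype.val hi).symm⟩
  have hcomm : ∀ k ∈ K, Commute k T := by
    intro k hk
    exact congrArg Subtype.val (mul_comm (⟨k, hk⟩ : K) ⟨T, hTK⟩)
  -- non-zero elements are injective
  have hinj : ∀ k : K, k ≠ 0 → Function.Injective (k : Module.End (ZMod p) V) := by
    intro k hk
    rw [← LinearMap.ker_eq_bot]
    refine (hirr _ fun x hx v hv => ?_).resolve_right fun h => hk (Subtype.ext (LinearMap.ker_eq_top.1 h))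
    obtain ⟨i, rfl⟩ := hAT x hx
    rw [LinearMap.mem_ker] at hv ⊢
    rw [hpow, ← Module.End.mul_apply, ((hcomm k k.2).pow_right i).eq, Module.End.mul_apply, hv, map_zero]
  obtain ⟨v₀, hv₀⟩ := exists_ne (0 : V)
  -- the evaluation at a vector
  let ev : K →+ V :=
    { toFun := fun k => (k : Module.End (ZMod p) V) v₀
      map_zero' := rfl
      map_add' := fun _ _ => rfl }
  have hev : Function.Bijective ev := by
    constructor
    · rw [injective_iff_map_eq_zero]
      intro k hk
      by_contra hne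
      exact hv₀ (hinj k hne (show (k : Module.End (ZMod p) V) v₀ = (k : Module.End (ZMod p) V) 0 from hk.trans (map_zero _).symm))
    · let L : K →ₗ[ZMod p] V :=
        { toFun := ev, map_add' := ev.map_add, map_smul' := fun _ _ => rfl }
      have hrange : LinearMap.range L = ⊤ := by
        refine (hirr _ ?_).resolve_left fun h => hv₀ ?_
        · rintro x hx _ ⟨k, rfl⟩
          obtain ⟨i, rfl⟩ := hAT x hx
          exact ⟨(⟨T, hTK⟩ : K) ^ i * k, by rw [hpow]; rfl⟩
        · have : v₀ ∈ LinearMap.range L := ⟨1, rfl⟩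
          rwa [h, Submodule.mem_bot] at this
      exact LinearMap.range_eq_top.1 hrange
  haveI : Nontrivial K := (Equiv.ofBijective _ hev).nontrivial
  have hfield : IsField K := by
    refine ⟨exists_pair_ne K, mul_comm, fun {k} hk => ?_⟩
    have hs : Function.Surjective fun l : K => k * l := Finite.injective_iff_surjective.1 fun l m h => by
      apply hev.1
      exact hinj k hk (show (k : Module.End (ZMod p) V) (ev l) = (k : Module.End (ZMod p) V) (ev m) from
        congrArg (fun z : K => (z : Module.End (ZMod p) V) v₀) h)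
    exact hs 1
  letI : Field K := hfield.toField
  haveI : Finite K := Subtype.finite
  let ι : K ≃ Car (Nat.card K) := Finite.equivFin K
  letI fF : Field (Car (Nat.card K)) := ι.symm.field
  let r : K ≃+* Car (Nat.card K) := (Equiv.ringEquiv ι.symm).symm
  let e0 : K ≃+ V := AddEquiv.ofBijective ev hev
  refine ⟨Car (Nat.card K), fF, inferInstance, e0.symm.trans r.toAddEquiv, fun h => ?_⟩
  -- conjugation
  let c : Module.End (ZMod p) V ≃ₐ[ZMod p] Module.End (ZMod p) V := (h : V ≃ₗ[ZMod p] V).conjAlgEquiv (ZMod p)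
  have hc : ∀ (f : Module.End (ZMod p) V) (v : V), c f ((h : V ≃ₗ[ZMod p] V) v) = (h : V ≃ₗ[ZMod p] V) (f v) := by
    intro f v
    show (h : V ≃ₗ[ZMod p] V) (f ((h : V ≃ₗ[ZMod p] V).symm ((h : V ≃ₗ[ZMod p] V) v))) = _
    rw [LinearEquiv.symm_apply_apply]
  have hcK : ∀ k ∈ K, c k ∈ K := by
    intro k hk
    have hle : K.map c.toAlgHom ≤ K := by
      rw [AlgHom.map_adjoin, Set.image_singleton]
      refine Algebra.adjoin_le (Set.singleton_subset_iff.2 ?_)
      obtain ⟨i, hi⟩ := hAT _ ((inferInstance : A.Normal).conj_mem a ha h)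
      have e : c T = T ^ i := by
        refine LinearMap.ext fun v => ?_
        obtain ⟨w, rfl⟩ := (h : V ≃ₗ[ZMod p] V).surjective v
        rw [hc, ← hpow, ← hi]
        show _ = (h : V ≃ₗ[ZMod p] V) ((a : V ≃ₗ[ZMod p] V) ((h : V ≃ₗ[ZMod p] V).symm ((h : V ≃ₗ[ZMod p] V) w)))
        rw [LinearEquiv.symm_apply_apply]
        rfl
      show c T ∈ K
      rw [e]
      exact pow_mem hTK i
    exact hle ⟨k, hk, rfl⟩
  let σ0 : K →+* K :=
    { toFun := fun k => ⟨c k, hcK _ k.2⟩
      map_one' := Subtype.ext (map_one c)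
      map_mul' := fun k l => Subtype.ext (map_mul c _ _)
      map_zero' := Subtype.ext (map_zero c)
      map_add' := fun k l => Subtype.ext (map_add c _ _) }
  let σ : K ≃+* K := RingEquiv.ofBijective σ0 (Finite.injective_iff_bijective.1 fun k l hkl =>
    Subtype.ext (c.injective (congrArg Subtype.val hkl)))
  let a0 : K := e0.symm ((h : V ≃ₗ[ZMod p] V) v₀)
  refine ⟨r a0, (r.symm.trans σ).trans r, fun v => ?_⟩
  obtain ⟨k, rfl⟩ := e0.surjective v
  show r (e0.symm ((h : V ≃ₗ[ZMod p] V) (e0 k))) = r a0 * r (σ (r.symm (r (e0.symm (e0 k)))))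
  rw [r.symm_apply_apply, e0.symm_apply_apply, ← map_mul, mul_comm a0]
  congr 1
  rw [AddEquiv.symm_apply_eq]
  show (h : V ≃ₗ[ZMod p] V) ((k : Module.End (ZMod p) V) v₀) = c (k : Module.End (ZMod p) V) ((a0 : Module.End (ZMod p) V) v₀)
  rw [show (a0 : Module.End (ZMod p) V) v₀ = (h : V ≃ₗ[ZMod p] V) v₀ from e0.apply_symm_apply _, hc]

/-- In odd characteristic a transitive semilinear group has a subgroup of index two. -/
theorem index_two_of_semilinear {G : Type*} [Group G] {W : Type*} [AddCommGroup W] (act : G → (W ≃+ W)) (hone : ∀ v, act 1 v = v) (hmul : ∀ g h v, act (g * h) v = act g (act h v))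
    {F : Type*} [Field F] [Fintype F] (e : W ≃+ F) (hF : ringChar F ≠ 2)
    (hsl : ∀ g : G, ∃ (a : F) (σ : F ≃+* F), ∀ v : W, e (act g v) = a * σ (e v))
    (htr : ∀ v w : W, v ≠ 0 → w ≠ 0 → ∃ g : G, act g v = w) :
    ∃ N : Subgroup G, N.Normal ∧ N.index = 2 := by
  classical
  choose a σ hσ using hsl
  set v₁ := e.symm 1
  have hv₁ : e v₁ = 1 := e.apply_symm_apply 1
  have ha : ∀ g, a g = e (act g v₁) := fun g => by rw [hσ, hv₁, map_one, mul_one]
  have ha0 : ∀ g, a g ≠ 0 := fun g h => by
    have h1 := ha g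
    rw [h, eq_comm, map_eq_zero_iff e e.injective, map_eq_zero_iff (act g) (act g).injective] at h1
    rw [h1, map_zero] at hv₁
    exact zero_ne_one hv₁
  have hq : ∀ (s : F ≃+* F) (b : F), quadraticChar F (s b) = quadraticChar F b := by
    intro s b
    by_cases hb : b = 0
    · rw [hb, map_zero s]
    have hsb : s b ≠ 0 := (map_ne_zero_iff s s.injective).2 hb
    have hiff : IsSquare (s b) ↔ IsSquare b := by
      refine ⟨fun h => ?_, fun h => h.map s⟩
      have := h.map s.symm
      rwa [s.symm_apply_apply] at this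
    rcases quadraticChar_dichotomy hb with h | h
    · rw [h, quadraticChar_one_iff_isSquare hsb, hiff]
      exact (quadraticChar_one_iff_isSquare hb).1 h
    · rw [h, quadraticChar_neg_one_iff_not_isSquare, hiff]
      exact quadraticChar_neg_one_iff_not_isSquare.1 h
  let χ : G →* ℤ :=
    { toFun := fun g => quadraticChar F (a g)
      map_one' := by rw [ha, hone, hv₁, map_one]
      map_mul' := fun g h => by
        rw [ha (g * h), hmul]
        rw [hσ, map_mul, hq, ← ha] }
  obtain ⟨b, hb⟩ := quadraticChar_exists_neg_one hF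
  have hb0 : b ≠ 0 := fun h => by rw [h, MulChar.map_zero] at hb; norm_num at hb
  obtain ⟨g₀, hg₀⟩ := htr v₁ (e.symm b) (fun h => by rw [h, map_zero] at hv₁; exact zero_ne_one hv₁)
    (fun h => hb0 (by rw [← e.apply_symm_apply b, h, map_zero e]))
  have hg : χ g₀ = -1 := by
    show quadraticChar F (a g₀) = -1
    rw [ha, hg₀, e.apply_symm_apply, hb]
  refine ⟨χ.ker, inferInstance, Subgroup.index_eq_two_iff.2 ⟨g₀, fun g => ?_⟩⟩
  rcases quadraticChar_dichotomy (ha0 g) with h | h <;>
    simp only [MonoidHom.mem_ker, map_mul, hg, show χ g = _ from h] <;> decide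

theorem q8_swap_mul : ∀ x y : QuaternionGroup 2,
    Cfsg.Lib.SolvStruct.QuaternionSection.gam (QuaternionGroup.xa 0) (QuaternionGroup.a 1) (x * y) =
      Cfsg.Lib.SolvStruct.QuaternionSection.gam (QuaternionGroup.xa 0) (QuaternionGroup.a 1) x *
        Cfsg.Lib.SolvStruct.QuaternionSection.gam (QuaternionGroup.xa 0) (QuaternionGroup.a 1) y := by
  decide

theorem q8_swap_invol : ∀ x : QuaternionGroup 2,
    Cfsg.Lib.SolvStruct.QuaternionSection.gam (QuaternionGroup.xa 0) (QuaternionGroup.a 1)
      (Cfsg.Lib.SolvStruct.QuaternionSection.gam (QuaternionGroup.xa 0) (QuaternionGroup.a 1) x) = x := by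
  decide

/-- The automorphism exchanging the two generators. -/
def q8swap : MulAut (QuaternionGroup 2) where
  toFun := Cfsg.Lib.SolvStruct.QuaternionSection.gam (QuaternionGroup.xa 0) (QuaternionGroup.a 1)
  invFun := Cfsg.Lib.SolvStruct.QuaternionSection.gam (QuaternionGroup.xa 0) (QuaternionGroup.a 1)
  left_inv := q8_swap_invol
  right_inv := q8_swap_invol
  map_mul' := q8_swap_mul

theorem q8swap_sign : Equiv.Perm.sign (q8swap.toEquiv : Equiv.Perm (QuaternionGroup 2)) = -1 := by
  decide +kernel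

set_option maxHeartbeats 1600000 in
/-- The exceptional groups have a normal subgroup of index two or are `SL(2,3)` or `SL(2,3) × C₅`. -/
theorem exceptional (hreg : ∀ v w : V, v ≠ 0 → w ≠ 0 → ∃! h : H, (h : V ≃ₗ[ZMod p] V) v = w)
    (hsolv : Group.IsSolvable H)
    (hI : ∀ A : Subgroup H, A.Normal → IsCyclic A → ∃ W : Submodule (ZMod p) V, W ≠ ⊥ ∧ W ≠ ⊤ ∧
      ∀ a ∈ A, ∀ v ∈ W, ((a : H) : V ≃ₗ[ZMod p] V) v ∈ W) :
    (Nat.card V = 25 ∨ Nat.card V = 49 ∨ Nat.card V = 121 ∨ Nat.card V = 529) ∧
    ((∃ M : Subgroup H, M.Normal ∧ M.index = 2) ∨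
      (Nat.card V = 25 ∧ Nonempty (H ≃* Matrix.SpecialLinearGroup (Fin 2) (ZMod 3))) ∨
      (Nat.card V = 121 ∧ Nonempty (H ≃* Matrix.SpecialLinearGroup (Fin 2) (ZMod 3) × Multiplicative (ZMod 5)))) := by
  classical
  have hpp : p.Prime := Fact.out
  haveI : Fact (Nat.Prime 2) := ⟨Nat.prime_two⟩
  haveI := finite_lin (p := p) (V := V)
  obtain ⟨A, -, ⟨hAn, hAc⟩, hAmax⟩ := Finite.exists_le_maximal
    (p := fun A : Subgroup H => A.Normal ∧ IsMulCommutative A) (a := ⊥) ⟨inferInstance, inferInstance⟩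
  have hAmax' : ∀ B : Subgroup H, B.Normal → IsMulCommutative B → A ≤ B → B = A := fun B h1 h2 h3 =>
    le_antisymm (hAmax ⟨h1, h2⟩ h3) h3
  haveI := hAn
  have hCA := (Cfsg.Agent.S0685.result H hreg hI A hAn hAc hAmax').2
  obtain ⟨N, hNle, ⟨hNn, hNna⟩, hNmin⟩ := Finite.exists_le_minimal
    (p := fun N : Subgroup H => N.Normal ∧ ¬ IsMulCommutative N) (a := Subgroup.centralizer (A : Set H)) ⟨inferInstance, hCA⟩
  haveI := hNn
  haveI : Nontrivial H := nontrivial_of_noncomm hNna
  obtain ⟨eN⟩ : Nonempty (N ≃* QuaternionGroup 2) := by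
    obtain ⟨W, φ, hW, hφ⟩ := exists_fpf_rep (crit_of_regular hreg)
    haveI := hW
    exact hφ.core_solvable hAn hAc hAmax' hNn hNle hNna
      (fun M h1 h2 h3 => le_antisymm h2 (hNmin ⟨h1, h3⟩ h2)) (haveI := hsolv; inferInstance)
  have hVcard := card_solvable hreg hI hNna eN
  refine ⟨hVcard, ?_⟩
  have h2 := finrank_eq_two hreg hNna fun _ => ⟨eN⟩
  haveI : Nontrivial V := Module.finrank_pos_iff.1 (by rw [h2]; norm_num)
  obtain ⟨v, hv⟩ := exists_ne (0 : V)
  have hH : Nat.card H = p ^ 2 - 1 := by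
    rw [Cfsg.Lib.PermGroups.LinearRegular.card_eq hreg hv, h2]
  have hV : Nat.card V = p ^ 2 := by
    rw [Module.natCard_eq_pow_finrank (K := ZMod p) (V := V), Nat.card_zmod, h2]
  have h8 : Nat.card N = 8 := by rw [Nat.card_congr eN.toEquiv, Nat.card_eq_fintype_card, QuaternionGroup.card]
  set C := centralizer (N : Set H) with hC
  choose a ha using fun c : C => Submodule.mem_span_singleton.1 (centralizer_scalar hreg h2 hNna hv c.2)
  -- the centraliser acts by scalars
  have hscal : ∀ (c : C) (w : V), ((c : H) : V ≃ₗ[ZMod p] V) w = a c • w := by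
    intro c w
    let W : Submodule (ZMod p) V := LinearMap.ker (((c : H) : V ≃ₗ[ZMod p] V).toLinearMap - a c • LinearMap.id)
    have hW : W = ⊤ := by
      refine (irreducible_of_noncomm hreg h2 hNna W fun n hn u hu => ?_).resolve_left fun h => hv ?_
      · simp only [W, LinearMap.mem_ker, LinearMap.sub_apply, LinearMap.smul_apply, LinearMap.id_apply,
          LinearEquiv.coe_coe, sub_eq_zero] at hu ⊢
        have hcn := mem_centralizer_iff.1 c.2 n hn
        calc ((c : H) : V ≃ₗ[ZMod p] V) ((n : V ≃ₗ[ZMod p] V) u) = (((c : H) * n : H) : V ≃ₗ[ZMod p] V) u := rfl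
          _ = ((n * (c : H) : H) : V ≃ₗ[ZMod p] V) u := by rw [hcn]
          _ = (n : V ≃ₗ[ZMod p] V) (((c : H) : V ≃ₗ[ZMod p] V) u) := rfl
          _ = _ := by rw [hu, map_smul]
      · have hvW : v ∈ W := by
          simp only [W, LinearMap.mem_ker, LinearMap.sub_apply, LinearMap.smul_apply, LinearMap.id_apply,
            LinearEquiv.coe_coe, sub_eq_zero]
          exact (ha c).symm
        rwa [h, Submodule.mem_bot] at hvW
    have : w ∈ W := hW ▸ Submodule.mem_top
    simpa [W, LinearMap.mem_ker, sub_eq_zero] using this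
  have hcentral : ∀ (c : C) (g : H), g * c = c * g := fun c g => Subtype.ext (LinearEquiv.ext fun w => by
    show (g : V ≃ₗ[ZMod p] V) (((c : H) : V ≃ₗ[ZMod p] V) w) = ((c : H) : V ≃ₗ[ZMod p] V) ((g : V ≃ₗ[ZMod p] V) w)
    rw [hscal, hscal, map_smul])
  have hCdvd : Nat.card C ∣ p - 1 := by
    let χ : C →* ZMod p :=
      { toFun := a
        map_one' := smul_left_injective (ZMod p) hv (by
          show a 1 • v = (1 : ZMod p) • v
          rw [ha, one_smul]; rfl)
        map_mul' := fun c d => smul_left_injective (ZMod p) hv (show a (c * d) • v = (a c * a d) • v from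
          calc a (c * d) • v = ((c : H) : V ≃ₗ[ZMod p] V) (((d : H) : V ≃ₗ[ZMod p] V) v) := ha (c * d)
            _ = a d • ((c : H) : V ≃ₗ[ZMod p] V) v := by rw [← ha d, map_smul]
            _ = (a c * a d) • v := by rw [← ha c, ← mul_smul, mul_comm]) }
    have hχ : Function.Injective χ := fun c d e => by
      apply Subtype.ext
      refine (hreg v _ hv (by simpa using hv)).unique ?_ rfl
      rw [← ha c, ← ha d]
      exact congrArg (· • v) e
    rw [Nat.card_congr (MonoidHom.ofInjective (f := χ.toHomUnits) fun c d e =>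
      hχ (congrArg Units.val e)).toEquiv, ← ZMod.card_units p, ← Nat.card_eq_fintype_card]
    exact Subgroup.card_subgroup_dvd_card _
  set ψ := (MulAut.conjNormal : H →* MulAut N) with hψ
  have hker : ψ.ker = C := by
    ext g
    rw [MonoidHom.mem_ker, hC, mem_centralizer_iff]
    constructor
    · intro hg s hs
      have := congrArg Subtype.val (DFunLike.congr_fun hg ⟨s, hs⟩)
      rw [MulAut.conjNormal_apply] at this
      exact (mul_inv_eq_iff_eq_mul.1 this).symm
    · intro hg
      refine MulEquiv.ext fun s => Subtype.ext ?_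
      rw [MulAut.conjNormal_apply, ← hg _ s.2, mul_inv_cancel_right]
      rfl
  haveI : Finite (MulAut N) := Finite.of_injective (fun α : MulAut N => (α : N → N)) DFunLike.coe_injective
  set k := Nat.card ψ.range with hk
  have hA24 : Nat.card (MulAut N) ≤ 24 := card_aut_q8 eN
  have hk24 : k ≤ 24 := (Nat.card_le_card_of_injective _ Subtype.val_injective).trans hA24
  have hHk : Nat.card C * k = p ^ 2 - 1 := by
    rw [hk, ← Subgroup.index_ker, hker, C.card_mul_index, hH]
  have h4k : 4 ∣ k := by
    have hz : Nat.card (ψ.comp N.subtype).ker ∣ 2 := by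
      have hle : (ψ.comp N.subtype).ker ≤ center N := fun s hs => mem_center_iff.2 fun t => by
        have := DFunLike.congr_fun (show ψ (s : H) = 1 from hs) t
        have h' := congrArg Subtype.val this
        rw [MulAut.conjNormal_apply] at h'
        exact Subtype.ext (mul_inv_eq_iff_eq_mul.1 h').symm
      refine (Subgroup.card_dvd_of_le hle).trans ?_
      rw [Nat.card_congr (Subgroup.centerCongr eN).toEquiv, Nat.card_eq_fintype_card]
      decide
    have h1 := (ψ.comp N.subtype).ker.card_mul_index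
    rw [h8, Subgroup.index_ker, MonoidHom.range_comp, range_subtype] at h1
    refine dvd_trans ?_ (Subgroup.card_dvd_of_le (map_le_range ψ N))
    rcases (Nat.dvd_prime Nat.prime_two).1 hz with e | e <;> rw [e] at h1
    · exact ⟨2, by omega⟩
    · exact ⟨1, by omega⟩
  -- a subgroup of index two
  have hidx24 : k = 24 → ∃ M : Subgroup H, M.Normal ∧ M.index = 2 := by
    intro hk'
    have htop : ψ.range = ⊤ := eq_top_of_le_card _ (by rw [← hk, hk']; exact hA24)
    obtain ⟨g, hg⟩ : MulAut.congr eN.symm q8swap ∈ ψ.range := htop ▸ mem_top _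
    haveI : Fintype N := Fintype.ofFinite N
    let sgn : H →* ℤˣ := (Equiv.Perm.sign).comp ((MulAut.toPerm N).comp ψ)
    have hsg : sgn g = -1 := by
      show Equiv.Perm.sign ((ψ g).toEquiv : Equiv.Perm N) = -1
      rw [hg]
      rw [← q8swap_sign]
      exact Equiv.Perm.sign_permCongr eN.symm.toEquiv q8swap.toEquiv
    refine ⟨sgn.ker, inferInstance, Subgroup.index_eq_two_iff.2 ⟨g, fun h => ?_⟩⟩
    rcases Int.units_eq_one_or (sgn h) with e | e <;>
      simp only [MonoidHom.mem_ker, map_mul, hsg, e] <;> decide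
  have hidxpow : ∀ j : ℕ, k = 2 ^ (j + 1) → ∃ M : Subgroup H, M.Normal ∧ M.index = 2 := by
    intro j hj
    obtain ⟨S, hS⟩ := Sylow.exists_subgroup_card_pow_prime (G := ψ.range) 2 (n := j)
      (hk ▸ hj ▸ pow_dvd_pow 2 (Nat.le_succ j))
    have hi : S.index = 2 := by
      have h := S.card_mul_index
      rw [hS, ← hk, hj, pow_succ] at h
      exact Nat.eq_of_mul_eq_mul_left (pow_pos two_pos j) h
    haveI := Subgroup.normal_of_index_eq_two hi
    exact ⟨S.comap ψ.rangeRestrict, inferInstance, by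
      rw [index_comap_of_surjective S ψ.rangeRestrict_surjective, hi]⟩
  -- the groups with twelve automorphisms
  have hSL : ∀ X : Subgroup H, N ≤ X → Nat.card X = 24 → ¬ 3 ∣ Nat.card C →
      Nonempty (X ≃* Matrix.SpecialLinearGroup (Fin 2) (ZMod 3)) := by
    intro X hNX hX h3
    haveI : Fact (Nat.Prime 3) := ⟨Nat.prime_three⟩
    obtain ⟨x, hx⟩ := exists_prime_orderOf_dvd_card' (G := X) 3 (by rw [hX]; norm_num)
    let e : QuaternionGroup 2 →* X := (inclusion hNX).comp eN.symm.toMonoidHom
    have he : Function.Injective e := (inclusion_injective hNX).comp eN.symm.injective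
    obtain ⟨Y, K, hK, ⟨f⟩⟩ := Cfsg.Lib.SolvStruct.QuaternionSection.section_of_auto e he x
      (by rw [hx]; norm_num) (fun q => by
        refine ⟨eN ⟨(x : H) * (eN.symm q : H) * (x : H)⁻¹, hNn.conj_mem _ (eN.symm q).2 _⟩, Subtype.ext ?_⟩
        show ((eN.symm (eN _) : N) : H) = _
        rw [eN.symm_apply_apply]
        rfl) (by
        by_contra hall
        push Not at hall
        refine h3 ?_
        have hxC : (x : H) ∈ C := mem_centralizer_iff.2 fun n hn => by
          have h' := congrArg Subtype.val (mul_inv_eq_iff_eq_mul.1 (hall (eN ⟨n, hn⟩)))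
          have e1 : ((e (eN ⟨n, hn⟩) : X) : H) = n := by
            show ((eN.symm (eN ⟨n, hn⟩) : N) : H) = n
            rw [eN.symm_apply_apply]
          rw [coe_mul, coe_mul, e1] at h'
          exact h'.symm
        rw [← hx, ← Subgroup.orderOf_coe x]
        exact Subgroup.orderOf_dvd_natCard C hxC)
    haveI := hK
    have hf := Nat.card_congr f.toEquiv
    have hSLc : Nat.card (Matrix.SpecialLinearGroup (Fin 2) (ZMod 3)) = 24 := by
      rw [Nat.card_eq_fintype_card]; decide
    have h1 := (K.subgroupOf Y).card_mul_index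
    rw [index_eq_card, hf, hSLc] at h1
    have hY : Nat.card Y ≤ 24 := hX ▸ Y.card_le_card_group
    have hpos : 0 < Nat.card (K.subgroupOf Y) := Nat.card_pos
    have hYtop : Y = ⊤ := eq_top_of_le_card Y (by rw [hX]; nlinarith)
    have hKbot : K.subgroupOf Y = ⊥ := eq_bot_of_card_eq _ (by nlinarith)
    exact ⟨((MulEquiv.subgroupCongr hYtop).trans Subgroup.topEquiv).symm.trans
      (((QuotientGroup.quotientBot).symm.trans (QuotientGroup.quotientMulEquivOfEq hKbot.symm)).trans f)⟩
  have hCk : 0 < Nat.card C := Nat.card_pos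
  rcases hVcard with h | h | h | h
  · have hp5 : p = 5 := Nat.pow_left_injective two_ne_zero (show p ^ 2 = 5 ^ 2 by rw [← hV, h])
    subst hp5
    norm_num at hHk hCdvd
    have hC4 : Nat.card C ≤ 4 := Nat.le_of_dvd (by norm_num) hCdvd
    interval_cases hc : Nat.card C
    · exact Or.inl (hidx24 (by omega))
    · refine Or.inr (Or.inl ⟨h, ?_⟩)
      obtain ⟨f⟩ := hSL ⊤ le_top (by rw [card_top, hH]; norm_num) (by norm_num)
      exact ⟨Subgroup.topEquiv.symm.trans f⟩
    · norm_num at hCdvd
    · omega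
  · have hp7 : p = 7 := Nat.pow_left_injective two_ne_zero (show p ^ 2 = 7 ^ 2 by rw [← hV, h])
    subst hp7
    norm_num at hHk hCdvd
    have hC6 : Nat.card C ≤ 6 := Nat.le_of_dvd (by norm_num) hCdvd
    interval_cases hc : Nat.card C
    · omega
    · exact Or.inl (hidx24 (by omega))
    · exact Or.inl (hidxpow 3 (by omega))
    · norm_num at hCdvd
    · norm_num at hCdvd
    · exact Or.inl (hidxpow 2 (by omega))
  · have hp11 : p = 11 := Nat.pow_left_injective two_ne_zero (show p ^ 2 = 11 ^ 2 by rw [← hV, h])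
    subst hp11
    norm_num at hHk hCdvd
    have hC10 : Nat.card C ≤ 10 := Nat.le_of_dvd (by norm_num) hCdvd
    interval_cases hc : Nat.card C
    · omega
    · omega
    · norm_num at hCdvd
    · norm_num at hCdvd
    · exact Or.inl (hidx24 (by omega))
    · norm_num at hCdvd
    · norm_num at hCdvd
    · norm_num at hCdvd
    · norm_num at hCdvd
    refine Or.inr (Or.inr ⟨h, ?_⟩)
    haveI : Fact (Nat.Prime 5) := ⟨by norm_num⟩
    obtain ⟨c, hc5⟩ := exists_prime_orderOf_dvd_card' (G := C) 5 (by rw [hc]; norm_num)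
    set Z := zpowers (c : H)
    have hZc : Nat.card Z = 5 := by rw [Nat.card_zpowers, Subgroup.orderOf_coe, hc5]
    have hZcen : ∀ z ∈ Z, ∀ g : H, g * z = z * g := by
      intro z hz g
      obtain ⟨i, rfl⟩ := hz
      exact ((show Commute g (c : H) from hcentral c g).zpow_right i).eq
    haveI : Z.Normal := ⟨fun z hz g => by rw [hZcen z hz g, mul_inv_cancel_right]; exact hz⟩
    have hZi : Z.index = 24 := by
      have := Z.card_mul_index
      rw [hZc, hH] at this
      omega
    obtain ⟨X, hX⟩ := Subgroup.exists_right_complement'_of_coprime (N := Z) (by rw [hZc, hZi]; norm_num)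
    have hXc : Nat.card X = 24 := by rw [← hX.symm.index_eq_card, hZi]
    have hNX : N ≤ X := by
      intro n hn
      obtain ⟨⟨⟨z, hz⟩, x⟩, hzx⟩ := hX.2 n
      dsimp only at hzx
      have hn8 : n ^ 8 = 1 := orderOf_dvd_iff_pow_eq_one.1 (h8 ▸ Subgroup.orderOf_dvd_natCard N hn)
      rw [← hzx, (show Commute z (x : H) from (hZcen z hz x).symm).mul_pow] at hn8
      have hz8 : z ^ 8 = 1 := by
        have hmem : z ^ 8 ∈ Z ⊓ X := ⟨pow_mem hz 8, by
          rw [eq_inv_of_mul_eq_one_left hn8]; exact X.inv_mem (X.pow_mem x.2 8)⟩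
        rwa [hX.disjoint.eq_bot, mem_bot] at hmem
      have hz1 : z = 1 := orderOf_eq_one_iff.1 (Nat.eq_one_of_dvd_coprimes (by norm_num : Nat.Coprime 5 8)
        (hZc ▸ Subgroup.orderOf_dvd_natCard Z hz) (orderOf_dvd_of_pow_eq_one hz8))
      rw [← hzx, hz1, one_mul]
      exact x.2
    obtain ⟨f⟩ := hSL X hNX hXc (by norm_num)
    let prod : X × Z →* H :=
      { toFun := fun u => (u.1 : H) * u.2
        map_one' := mul_one 1
        map_mul' := fun u w => by
          show (u.1 : H) * w.1 * ((u.2 : H) * w.2) = (u.1 : H) * u.2 * ((w.1 : H) * w.2)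
          rw [mul_assoc, ← mul_assoc (w.1 : H), hZcen _ u.2.2 (w.1 : H)]
          group }
    have hprod : Function.Bijective prod := hX.symm
    haveI : IsCyclic Z := inferInstance
    let g5 : Z ≃* Multiplicative (ZMod 5) := mulEquivOfCyclicCardEq (by
      rw [hZc, Nat.card_congr Multiplicative.toAdd, Nat.card_zmod])
    exact ⟨(MulEquiv.ofBijective prod hprod).symm.trans (f.prodCongr g5)⟩
  · have hp23 : p = 23 := Nat.pow_left_injective two_ne_zero (show p ^ 2 = 23 ^ 2 by rw [← hV, h])
    subst hp23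
    norm_num at hHk hCdvd
    have hC22 : Nat.card C ≤ 22 := Nat.le_of_dvd (by norm_num) hCdvd
    have hk22 : Nat.card C = 22 := by
      have hmem : Nat.card C ∈ Nat.divisors 22 := Nat.mem_divisors.2 ⟨hCdvd, by norm_num⟩
      have hd : Nat.divisors 22 = {1, 2, 11, 22} := by decide
      simp only [hd, Finset.mem_insert, Finset.mem_singleton] at hmem
      rcases hmem with e | e | e | e <;> rw [e] at hHk <;> omega
    rw [hk22] at hHk
    exact Or.inl (hidx24 (by omega))

end Cfsg.Lib.SolvableRegular
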