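import Mathlib
import Cfsg.Prelude.Def_Solvable
import Cfsg.Agent.Coprime.Generation
import Cfsg.Agent.Components.Cores
import Cfsg.Agent.SolvStruct.NilpotentHall

/-!
Groups of odd order transitive on the nonzero vectors of an elementary abelian `2`-group: elementary facts.
-/

set_option autoImplicit false
set_option linter.style.haveILetI false
set_option linter.unusedSectionVars false

namespace Cfsg.Lib.LinearPerm.OddTrans

open Subgroup MulAction

variable {D E : Type*} [Group D] [Finite D] [AddCommGroup E] [Finite E] [DistribMulAction D E]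

/-- No non-identity element of `A` fixes a nonzero vector. -/
def Semireg (A : Subgroup D) (E : Type*) [AddCommGroup E] [DistribMulAction D E] : Prop :=
  ∀ a ∈ A, ∀ v : E, v ≠ 0 → a • v = v → a = 1

theorem semireg_of_normal_abelian [FaithfulSMul D E]
    (htrans : ∀ a b : E, a ≠ 0 → b ≠ 0 → ∃ d : D, d • a = b) (A : Subgroup D) [A.Normal]
    (hA : ∀ a ∈ A, ∀ b ∈ A, a * b = b * a) : Semireg A E := by
  let St : E → Subgroup D := fun v => A ⊓ stabilizer D v
  have hmem : ∀ {v : E} {d : D}, d ∈ St v ↔ d ∈ A ∧ d • v = v := Iff.rfl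
  have hcard : ∀ v w : E, v ≠ 0 → w ≠ 0 → Nat.card (St v) = Nat.card (St w) := by
    intro v w hv hw
    obtain ⟨d, rfl⟩ := htrans v w hv hw
    have h : St (d • v) = (St v).map (MulAut.conj d).toMonoidHom := by
      ext z
      rw [hmem, Subgroup.mem_map]
      constructor
      · rintro ⟨hz, hzw⟩
        refine ⟨d⁻¹ * z * d, hmem.2 ⟨?_, ?_⟩, ?_⟩
        · have := (inferInstance : A.Normal).conj_mem z hz d⁻¹
          rwa [inv_inv] at this
        · rw [mul_smul, mul_smul, hzw, inv_smul_smul]
        · show d * (d⁻¹ * z * d) * d⁻¹ = z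
          group
      · rintro ⟨y, hy, rfl⟩
        obtain ⟨hyA, hyv⟩ := hmem.1 hy
        refine ⟨(inferInstance : A.Normal).conj_mem y hyA d, ?_⟩
        show (d * y * d⁻¹) • d • v = d • v
        rw [mul_smul, mul_smul, inv_smul_smul, hyv]
    rw [h]
    exact Nat.card_congr ((St v).equivMapOfInjective _ (MulAut.conj d).injective).toEquiv
  have hsame : ∀ v w : E, v ≠ 0 → w ≠ 0 → St v = St w := by
    intro v w hv hw
    rcases eq_or_ne (v + w) 0 with hu | hu
    · obtain rfl : w = -v := (neg_eq_of_add_eq_zero_right hu).symm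
      ext z
      rw [hmem, hmem, smul_neg, neg_inj]
    have key : ∀ z ∈ St (v + w), ∀ l ∈ St v, l • (z • v - v) = z • v - v := by
      intro z hz l hl
      obtain ⟨hlA, hlv⟩ := hmem.1 hl
      rw [smul_sub, ← mul_smul, hA l hlA z (hmem.1 hz).1, mul_smul, hlv]
    have key' : ∀ z ∈ St (v + w), ∀ l ∈ St w, l • (z • v - v) = z • v - v := by
      intro z hz l hl
      obtain ⟨hlA, hlw⟩ := hmem.1 hl
      have h1 : z • v - v = -(z • w - w) := by
        have := (hmem.1 hz).2
        rw [smul_add] at this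
        rw [eq_neg_iff_add_eq_zero, sub_add_sub_comm, this, sub_self]
      rw [h1, smul_neg, smul_sub, ← mul_smul, hA l hlA z (hmem.1 hz).1, mul_smul, hlw]
    by_cases h : ∃ z ∈ St (v + w), z • v - v ≠ 0
    · obtain ⟨z, hz, hy⟩ := h
      have e1 : St v = St (z • v - v) := Subgroup.eq_of_le_of_card_ge
        (fun l hl => hmem.2 ⟨(hmem.1 hl).1, key z hz l hl⟩) (le_of_eq (hcard _ _ hy hv))
      have e2 : St w = St (z • v - v) := Subgroup.eq_of_le_of_card_ge
        (fun l hl => hmem.2 ⟨(hmem.1 hl).1, key' z hz l hl⟩) (le_of_eq (hcard _ _ hy hw))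
      rw [e1, e2]
    · push Not at h
      have e1 : St (v + w) = St v := Subgroup.eq_of_le_of_card_ge
        (fun z hz => hmem.2 ⟨(hmem.1 hz).1, sub_eq_zero.1 (h z hz)⟩) (le_of_eq (hcard _ _ hv hu))
      have e2 : St (v + w) = St w := Subgroup.eq_of_le_of_card_ge
        (fun z hz => hmem.2 ⟨(hmem.1 hz).1, by
          have := (hmem.1 hz).2
          rw [smul_add, sub_eq_zero.1 (h z hz)] at this
          exact add_left_cancel this⟩) (le_of_eq (hcard _ _ hw hu))
      rw [← e1, e2]
  intro a ha v hv hav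
  apply eq_of_smul_eq_smul (α := E)
  intro u
  rw [one_smul]
  rcases eq_or_ne u 0 with rfl | hu
  · exact smul_zero _
  · exact (hmem.1 (hsame v u hv hu ▸ hmem.2 ⟨ha, hav⟩)).2

theorem sum_orbit_eq_zero {g : D} {q : ℕ} (hg : g ^ q = 1) (hfree : ∀ v : E, g • v = v → v = 0) (v : E) :
    ∑ i ∈ Finset.range q, g ^ i • v = 0 := by
  refine hfree _ ?_
  have h := Finset.sum_range_succ' (fun i => g ^ i • v) q
  rw [Finset.sum_range_succ, hg, pow_zero, one_smul, add_left_inj] at h
  rw [Finset.smul_sum]
  simp_rw [← mul_smul, ← pow_succ']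
  exact h.symm

theorem isCyclic_of_semireg [Nontrivial E] (h2 : ∀ e : E, 2 • e = 0) (hodd : Odd (Nat.card D))
    (A : Subgroup D) (hA : ∀ a ∈ A, ∀ b ∈ A, a * b = b * a) (hs : Semireg A E) : IsCyclic A := by
  by_contra hc
  letI : CommGroup A := { (inferInstance : Group A) with mul_comm := fun a b => Subtype.ext (hA a a.2 b b.2) }
  obtain ⟨q, x, y, hq, hx, hy, hxy⟩ := Cfsg.Lib.Coprime.exists_root_pair_of_not_cyclic hc
  haveI := Fact.mk hq
  obtain ⟨v, hv⟩ := exists_ne (0 : E)
  have hfree : ∀ g : A, g ≠ 1 → ∀ w : E, (g : D) • w = w → w = 0 := fun g hg w hw => by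
    by_contra hw0
    exact hg (Subtype.ext (hs g g.2 w hw0 hw))
  have hqpow : ∀ g : A, g ^ q = 1 → (g : D) ^ q = 1 := fun g hg => by
    rw [← Subgroup.coe_pow, hg, Subgroup.coe_one]
  have hxq : x ^ q = 1 := by rw [← hx]; exact pow_orderOf_eq_one x
  have hyq : y ^ q = 1 := by rw [← hy]; exact pow_orderOf_eq_one y
  have hz : ∀ g : A, g ^ q = 1 → g ≠ 1 → ∀ w : E, ∑ i ∈ Finset.range q, (g : D) ^ i • w = 0 :=
    fun g hg hg1 w => sum_orbit_eq_zero (hqpow g hg) (hfree g hg1) w
  have hline : ∀ j : ℕ, x * y ^ j ≠ 1 := fun j h => by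
    obtain rfl : x = (y ^ j)⁻¹ := eq_inv_of_mul_eq_one_left h
    apply hxy
    rw [Subgroup.zpowers_inv]
    have hj : ¬ q ∣ j := fun hd => by
      rw [(orderOf_dvd_iff_pow_eq_one.1 (hy.symm ▸ hd)), inv_one, orderOf_one] at hx
      exact hq.ne_one hx.symm
    exact mem_zpowers_pow_iff.2 (by
      rw [hy]
      exact ((Nat.Prime.coprime_iff_not_dvd hq).2 hj).symm)
  have hT : ∑ j ∈ Finset.range q, ∑ i ∈ Finset.range q, ((x * y ^ j : A) : D) ^ i • v = 0 :=
    Finset.sum_eq_zero fun j _ => hz _ (by rw [mul_pow, hxq, one_mul, ← pow_mul, mul_comm, pow_mul, hyq, one_pow])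
      (hline j) v
  rw [Finset.sum_comm, Finset.sum_eq_single 0 (fun i hi hi0 => ?_) (fun h => absurd (Finset.mem_range.2 hq.pos) h)] at hT
  · simp only [pow_zero, one_smul, Finset.sum_const, Finset.card_range] at hT
    have hqo : Odd q := hodd.of_dvd_nat (hy ▸ (orderOf_dvd_natCard y).trans (Subgroup.card_subgroup_dvd_card A))
    obtain ⟨m, hm⟩ := hqo
    rw [hm, add_smul, one_smul, mul_comm, mul_smul, h2, smul_zero, zero_add] at hT
    exact hv hT
  · have hyi : y ^ i ≠ 1 := fun h => by
      have := Nat.le_of_dvd (Nat.pos_of_ne_zero hi0) (orderOf_dvd_of_pow_eq_one h)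
      rw [hy] at this
      exact absurd (Finset.mem_range.1 hi) (not_lt.2 this)
    calc ∑ j ∈ Finset.range q, ((x * y ^ j : A) : D) ^ i • v
        = ∑ j ∈ Finset.range q, (x : D) ^ i • (((y ^ i : A) : D) ^ j • v) := by
          refine Finset.sum_congr rfl fun j _ => ?_
          rw [← mul_smul, ← Subgroup.coe_pow, ← Subgroup.coe_pow, ← Subgroup.coe_pow, ← Subgroup.coe_mul, mul_pow, ← pow_mul,
            ← pow_mul, mul_comm j i]
      _ = 0 := by
        rw [← Finset.smul_sum, hz _ (by rw [← pow_mul, mul_comm, pow_mul, hyq, one_pow]) hyi, smul_zero]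

/-- The vectors spanned by the orbit of `v` under `x`. -/
def orbSpan (x : D) (v : E) : AddSubgroup E := AddSubgroup.closure (Set.range fun i : ℕ => x ^ i • v)

theorem mem_orbSpan_self (x : D) (v : E) : v ∈ orbSpan x v :=
  AddSubgroup.subset_closure ⟨0, by simp⟩

theorem orbSpan_smul (x : D) (v : E) {u : E} (hu : u ∈ orbSpan x v) : x • u ∈ orbSpan x v := by
  induction hu using AddSubgroup.closure_induction with
  | mem u hu =>
    obtain ⟨i, rfl⟩ := hu
    exact AddSubgroup.subset_closure ⟨i + 1, by simp [pow_succ', mul_smul]⟩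
  | zero => rw [smul_zero]; exact zero_mem _
  | add a b _ _ ha hb => rw [smul_add]; exact add_mem ha hb
  | neg a _ ha => rw [smul_neg]; exact neg_mem ha

/-- An invariant subgroup meets the free action of an element of prime order in `1` mod `r` vectors. -/
theorem card_modEq_one {x : D} {r : ℕ} [Fact r.Prime] (hx : orderOf x = r)
    (hfree : ∀ v : E, x • v = v → v = 0) (W : AddSubgroup E) (hW : ∀ u ∈ W, x • u ∈ W) :
    Nat.card W ≡ 1 [MOD r] := by
  have hall : ∀ g ∈ zpowers x, ∀ u ∈ W, g • u ∈ W := fun g hg u hu => by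
    obtain ⟨i, rfl⟩ := Submonoid.mem_powers_iff g x |>.1 (mem_powers_iff_mem_zpowers.2 hg)
    induction i generalizing u with
    | zero => simpa using hu
    | succ i ih => rw [pow_succ, mul_smul]; exact ih _ (hW u hu) (pow_mem (mem_zpowers x) i)
  letI : MulAction (zpowers x) W :=
    { smul := fun g u => ⟨(g : D) • (u : E), hall g g.2 u u.2⟩
      one_smul := fun u => Subtype.ext (one_smul D (u : E))
      mul_smul := fun g h u => Subtype.ext (mul_smul (g : D) h (u : E)) }
  have hp : IsPGroup r (zpowers x) := IsPGroup.of_card (n := 1) (by rw [Nat.card_zpowers, hx, pow_one])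
  refine (hp.card_modEq_card_fixedPoints W).trans ?_
  have h1 : MulAction.fixedPoints (zpowers x) W = {0} := by
    ext u
    simp only [MulAction.mem_fixedPoints, Set.mem_singleton_iff]
    constructor
    · exact fun h => Subtype.ext (hfree _ (congrArg Subtype.val (h ⟨x, mem_zpowers x⟩)))
    · rintro rfl g
      exact Subtype.ext (smul_zero (A := E) (g : D))
  rw [h1]
  simp [Nat.ModEq]

theorem mem_centralizer_fix {x c : D} (hc : c ∈ centralizer ({x} : Set D)) {v : E} (hv : c • v = v) :
    ∀ u ∈ orbSpan x v, c • u = u := fun u hu => by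
  have hcx : Commute c x := Subgroup.mem_centralizer_singleton_iff.1 hc
  induction hu using AddSubgroup.closure_induction with
  | mem u hu =>
    obtain ⟨i, rfl⟩ := hu
    rw [← mul_smul, (hcx.pow_right i).eq, mul_smul, hv]
  | zero => exact smul_zero _
  | add a b _ _ ha hb => rw [smul_add, ha, hb]
  | neg a _ ha => rw [smul_neg, ha]

/-- A centraliser with a cyclic vector is commutative. -/
theorem centralizer_comm [FaithfulSMul D E] {x : D} {v : E} (hspan : orbSpan x v = ⊤) :
    ∀ c ∈ centralizer ({x} : Set D), ∀ d ∈ centralizer ({x} : Set D), c * d = d * c := by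
  let P : AddSubgroup (E → E) := AddSubgroup.closure (Set.range fun i : ℕ => fun u : E => x ^ i • u)
  have hcomm : ∀ f ∈ P, ∀ c ∈ centralizer ({x} : Set D), ∀ u, c • f u = f (c • u) := by
    intro f hf
    induction hf using AddSubgroup.closure_induction with
    | mem f hf =>
      obtain ⟨i, rfl⟩ := hf
      intro c hc u
      have hcx : Commute c x := Subgroup.mem_centralizer_singleton_iff.1 hc
      show c • x ^ i • u = x ^ i • c • u
      rw [← mul_smul, ← mul_smul, (hcx.pow_right i).eq]
    | zero => intro c _ u; exact smul_zero _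
    | add f g _ _ hf hg => intro c hc u; simp only [Pi.add_apply, smul_add, hf c hc u, hg c hc u]
    | neg f _ hf => intro c hc u; simp only [Pi.neg_apply, smul_neg, hf c hc u]
  have hP : ∀ f ∈ P, ∀ g ∈ P, ∀ u, f (g u) = g (f u) := by
    intro f hf
    induction hf using AddSubgroup.closure_induction with
    | mem f hf =>
      obtain ⟨i, rfl⟩ := hf
      intro g hg u
      exact hcomm g hg _ (Subgroup.mem_centralizer_singleton_iff.2 (Commute.pow_self x i).eq) u
    | zero =>
      intro g hg u
      have h := hcomm g hg 1 (one_mem _)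
      have : g 0 = 0 := by
        induction hg using AddSubgroup.closure_induction with
        | mem g hg => obtain ⟨i, rfl⟩ := hg; exact smul_zero _
        | zero => rfl
        | add g g' _ _ hg hg' => simp [hg, hg']
        | neg g _ hg => simp [hg]
      exact this.symm
    | add f f' _ _ hf hf' =>
      intro g hg u
      have hadd : ∀ a b, g (a + b) = g a + g b := by
        induction hg using AddSubgroup.closure_induction with
        | mem g hg => obtain ⟨i, rfl⟩ := hg; exact fun a b => smul_add _ a b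
        | zero => exact fun a b => (add_zero (0 : E)).symm
        | add g g' _ _ hg hg' => intro a b; simp only [Pi.add_apply, hg, hg']; abel
        | neg g _ hg => intro a b; simp only [Pi.neg_apply, hg]; abel
      rw [Pi.add_apply, Pi.add_apply, hf g hg, hf' g hg, hadd]
    | neg f _ hf =>
      intro g hg u
      have hneg : ∀ a, g (-a) = -g a := by
        induction hg using AddSubgroup.closure_induction with
        | mem g hg => obtain ⟨i, rfl⟩ := hg; exact fun a => smul_neg _ a
        | zero => exact fun a => neg_zero.symm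
        | add g g' _ _ hg hg' => intro a; simp only [Pi.add_apply, hg, hg']; abel
        | neg g _ hg => intro a; simp only [Pi.neg_apply, hg]
      rw [Pi.neg_apply, Pi.neg_apply, hf g hg, hneg]
  have hex : ∀ u : E, ∃ f ∈ P, f v = u := fun u => by
    have hu : u ∈ orbSpan x v := hspan ▸ AddSubgroup.mem_top u
    induction hu using AddSubgroup.closure_induction with
    | mem u hu => obtain ⟨i, rfl⟩ := hu; exact ⟨_, AddSubgroup.subset_closure ⟨i, rfl⟩, rfl⟩
    | zero => exact ⟨0, zero_mem _, rfl⟩
    | add a b _ _ ha hb =>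
      obtain ⟨f, hf, rfl⟩ := ha
      obtain ⟨g, hg, rfl⟩ := hb
      exact ⟨f + g, add_mem hf hg, rfl⟩
    | neg a _ ha => obtain ⟨f, hf, rfl⟩ := ha; exact ⟨-f, neg_mem hf, rfl⟩
  intro c hc d hd
  apply eq_of_smul_eq_smul (α := E)
  intro u
  obtain ⟨f, hf, rfl⟩ := hex u
  obtain ⟨g, hg, hgv⟩ := hex (c • v)
  obtain ⟨h, hh, hhv⟩ := hex (d • v)
  have key : (c * d) • v = (d * c) • v := by
    calc (c * d) • v = c • h v := by rw [mul_smul, hhv]
      _ = h (g v) := by rw [hcomm h hh c hc, hgv]
      _ = g (h v) := hP h hh g hg v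
      _ = d • g v := by rw [hcomm g hg d hd, hhv]
      _ = _ := by rw [hgv, mul_smul]
  rw [hcomm f hf _ (mul_mem hc hd), hcomm f hf _ (mul_mem hd hc), key]

/-- The consequences of a normal subgroup of prime order with semiregular abelian centraliser. -/
theorem structure_of_centralizer [Nontrivial E] (h2 : ∀ e : E, 2 • e = 0) (hodd : Odd (Nat.card D))
    {x : D} {r : ℕ} [Fact r.Prime] (hx : orderOf x = r) [hn : (zpowers x).Normal]
    (hs : Semireg (centralizer ({x} : Set D)) E)
    (hab : ∀ c ∈ centralizer ({x} : Set D), ∀ d ∈ centralizer ({x} : Set D), c * d = d * c) :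
    IsCyclic (centralizer ({x} : Set D)) ∧ (centralizer ({x} : Set D)).Normal ∧
      commutator D ≤ centralizer ({x} : Set D) ∧
      Cfsg.fittingSubgroup D = centralizer ({x} : Set D) := by
  set C := centralizer ({x} : Set D)
  haveI hcyc : IsCyclic (zpowers x) := inferInstance
  let φ : D →* MulAut (zpowers x) := MulAut.conjNormal
  have hker : φ.ker = C := by
    ext d
    rw [MonoidHom.mem_ker, Subgroup.mem_centralizer_singleton_iff]
    constructor
    · intro h
      have h1 := congrArg Subtype.val (DFunLike.congr_fun h (⟨x, mem_zpowers x⟩ : zpowers x))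
      simp only [φ, MulAut.conjNormal_apply, MulAut.one_apply] at h1
      exact mul_inv_eq_iff_eq_mul.1 h1
    · intro h
      refine MulEquiv.ext fun ⟨y, hy⟩ => Subtype.ext ?_
      obtain ⟨k, rfl⟩ := hy
      show d * x ^ k * d⁻¹ = x ^ k
      rw [((show Commute d x from h).zpow_right k).eq, mul_inv_cancel_right]
  haveI hCn : C.Normal := hker ▸ MonoidHom.normal_ker φ
  have hcomm : IsMulCommutative (MulAut (zpowers x)) := ⟨⟨fun a b => by
    obtain ⟨g, hg⟩ := IsCyclic.exists_generator (α := zpowers x)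
    obtain ⟨i, hi : g ^ i = a g⟩ := hg (a g)
    obtain ⟨j, hj : g ^ j = b g⟩ := hg (b g)
    refine MulEquiv.ext fun y => ?_
    obtain ⟨k, rfl⟩ := hg y
    simp only [MulAut.mul_apply, map_zpow, ← hi, ← hj, ← zpow_mul]
    ring_nf⟩⟩
  have hder : commutator D ≤ C := by
    rw [← hker, commutator_def, Subgroup.commutator_le]
    intro a _ b _
    rw [MonoidHom.mem_ker, map_commutatorElement, commutatorElement_eq_one_iff_mul_comm]
    exact hcomm.is_comm.comm _ _
  haveI hCcomm : IsMulCommutative C := ⟨⟨fun a b => Subtype.ext (hab a a.2 b b.2)⟩⟩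
  haveI : Group.IsNilpotent C := by
    letI : CommGroup C := { (inferInstance : Group C) with mul_comm := fun a b => Subtype.ext (hab a a.2 b b.2) }
    infer_instance
  refine ⟨isCyclic_of_semireg h2 hodd C hab hs, hCn, hder, le_antisymm ?_ (Cfsg.Lib.Components.le_fitting ‹_›)⟩
  intro y hy
  rw [← hker, MonoidHom.mem_ker, ← orderOf_eq_one_iff]
  haveI : Group.IsNilpotent (Cfsg.fittingSubgroup D) := Cfsg.Lib.Components.isNilpotent_fitting
  have hxF : x ∈ Cfsg.fittingSubgroup D :=
    Cfsg.Lib.Components.le_fitting ‹Group.IsNilpotent C› (Subgroup.mem_centralizer_singleton_iff.2 rfl)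
  have hdvd : orderOf (φ y) ∣ r - 1 := by
    refine (_root_.orderOf_dvd_natCard (φ y)).trans ?_
    rw [IsCyclic.card_mulAut, Nat.card_zpowers, hx, Nat.totient_prime Fact.out]
  by_contra hne
  obtain ⟨q, hq, hqd⟩ := Nat.exists_prime_and_dvd hne
  haveI := Fact.mk hq
  have hqr : r ≠ q := by
    rintro rfl
    have := Nat.le_of_dvd (Nat.sub_pos_of_lt hq.one_lt) (hqd.trans hdvd)
    have := hq.two_le
    omega
  set z : Cfsg.fittingSubgroup D := ⟨y, hy⟩ ^ ordCompl[q] (orderOf y)
  have hzq : ∃ i, orderOf z = q ^ i := by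
    refine ⟨(orderOf y).factorization q, ?_⟩
    have ho : orderOf (⟨y, hy⟩ : Cfsg.fittingSubgroup D) = orderOf y := (Subgroup.orderOf_coe _).symm
    show orderOf ((⟨y, hy⟩ : Cfsg.fittingSubgroup D) ^ _) = _
    rw [orderOf_pow_of_dvd (Nat.ordCompl_pos q (orderOf_pos y).ne').ne' (ho ▸ Nat.ordCompl_dvd _ _), ho]
    exact Nat.div_eq_of_eq_mul_left (Nat.ordCompl_pos q (orderOf_pos y).ne')
      (Nat.ordProj_mul_ordCompl_eq_self _ _).symm
  have hcx := Cfsg.Lib.SolvStruct.commute_of_coprime_of_nilpotent (p := r) (q := q) hqr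
    (x := (⟨x, hxF⟩ : Cfsg.fittingSubgroup D)) (y := z) ⟨1, by rw [← Subgroup.orderOf_coe, pow_one]; exact hx⟩ hzq
  have hz1 : φ (y ^ ordCompl[q] (orderOf y)) = 1 := by
    rw [← MonoidHom.mem_ker, hker, Subgroup.mem_centralizer_singleton_iff]
    exact (congrArg Subtype.val hcx.eq).symm
  rw [map_pow] at hz1
  exact Nat.not_dvd_ordCompl hq (orderOf_pos y).ne' (hqd.trans (orderOf_dvd_of_pow_eq_one hz1))

end Cfsg.Lib.LinearPerm.OddTrans
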