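import Mathlib
import Cfsg.Agent.LinearPerm.SolvableTransitive.Main
import Cfsg.Agent.Coprime.Hall
import Cfsg.Agent.S0003

/-!
# Solvable linear groups transitive on lines and on planes

A solvable group of automorphisms of an elementary abelian group of order `p ^ n`, `n ≥ 3`, which is transitive
on the subgroups of order `p` and on those of order `p ^ 2`, is semilinear of degree one, and then `n = 3`,
or `n = 5` and `p = 2`.
-/

set_option autoImplicit false

namespace Cfsg.Lib.EquiTransitive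

variable {p : ℕ} [hp : Fact p.Prime]

section Field

/-- The number of automorphisms of a Galois field. -/
theorem card_ringAut {n : ℕ} (hn : n ≠ 0) :
    Nat.card (GaloisField p n ≃+* GaloisField p n) = n := by
  have e : (GaloisField p n ≃+* GaloisField p n) ≃ (GaloisField p n ≃ₐ[ZMod p] GaloisField p n) :=
    { toFun := fun f => AlgEquiv.ofRingEquiv (f := f) (fun x =>
        RingHom.congr_fun (RingHom.ext_zmod ((f : GaloisField p n →+* GaloisField p n).comp
          (algebraMap (ZMod p) (GaloisField p n))) (algebraMap (ZMod p) (GaloisField p n))) x)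
      invFun := fun f => f.toRingEquiv
      left_inv := fun f => RingEquiv.ext fun _ => rfl
      right_inv := fun f => AlgEquiv.ext fun _ => rfl }
  rw [Nat.card_congr e, IsGalois.card_aut_eq_finrank, GaloisField.finrank p hn]

end Field

section Count

variable {V : Type*} [AddCommGroup V] [Finite V]

/-- Ordered pairs generating a subgroup of order `p ^ 2`. -/
def pairs (B : AddSubgroup V) : Type _ :=
  Σ v : {v : V // v ∈ B ∧ v ≠ 0}, {w : V // w ∈ B ∧ w ∉ AddSubgroup.zmultiples (v : V)}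

instance (B : AddSubgroup V) : Finite (pairs B) := by unfold pairs; infer_instance

theorem addOrderOf_eq (hexp : ∀ v : V, p • v = 0) {v : V} (hv : v ≠ 0) : addOrderOf v = p :=
  addOrderOf_eq_prime (hexp v) hv

theorem card_zmultiples (hexp : ∀ v : V, p • v = 0) {v : V} (hv : v ≠ 0) :
    Nat.card (AddSubgroup.zmultiples v) = p := by
  rw [Nat.card_zmultiples, addOrderOf_eq hexp hv]

theorem card_pairs (hexp : ∀ v : V, p • v = 0) (B : AddSubgroup V) :
    Nat.card (pairs B) = (Nat.card B - 1) * (Nat.card B - p) := by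
  classical
  haveI := Fintype.ofFinite V
  unfold pairs
  have h1 : Nat.card {v : V // v ∈ B ∧ v ≠ 0} = Nat.card B - 1 := by
    rw [Nat.subtype_card ((B : Set V).toFinset.erase 0) (p := fun v => v ∈ B ∧ v ≠ 0)
      (by intro v; simp [and_comm]),
      Finset.card_erase_of_mem (by simp), Set.toFinset_card]
    rw [← Nat.card_eq_fintype_card]
    rfl
  have h2 : ∀ v : {v : V // v ∈ B ∧ v ≠ 0},
      Nat.card {w : V // w ∈ B ∧ w ∉ AddSubgroup.zmultiples (v : V)} = Nat.card B - p := by
    rintro ⟨v, hvB, hv⟩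
    rw [Nat.subtype_card ((B : Set V).toFinset \ (AddSubgroup.zmultiples v : Set V).toFinset)
      (p := fun w => w ∈ B ∧ w ∉ AddSubgroup.zmultiples v) (by intro w; simp),
      Finset.card_sdiff_of_subset, Set.toFinset_card,
      Set.toFinset_card, ← Nat.card_eq_fintype_card, ← Nat.card_eq_fintype_card]
    · rw [show Nat.card (AddSubgroup.zmultiples v : Set V) = p from card_zmultiples hexp hv]
      rfl
    · simp only [Set.toFinset_subset_toFinset, SetLike.coe_subset_coe]
      exact AddSubgroup.zmultiples_le_of_mem hvB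
  rw [Nat.card_sigma, Finset.sum_congr rfl (fun v _ => h2 v), Finset.sum_const, Finset.card_univ,
    smul_eq_mul, ← Nat.card_eq_fintype_card, h1]

theorem closure_pair (hexp : ∀ v : V, p • v = 0) {B : AddSubgroup V} (hB : Nat.card B = p ^ 2) {v w : V}
    (hv : v ∈ B) (hv0 : v ≠ 0) (hw : w ∈ B) (hwv : w ∉ AddSubgroup.zmultiples v) :
    AddSubgroup.closure ({v, w} : Set V) = B := by
  have hle : AddSubgroup.closure ({v, w} : Set V) ≤ B := (AddSubgroup.closure_le B).2 (by
    rintro x (rfl | rfl) <;> assumption)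
  refine AddSubgroup.eq_of_le_of_card_ge hle ?_
  obtain ⟨j, hj, hje⟩ := (Nat.dvd_prime_pow hp.out).1 (hB ▸ AddSubgroup.card_dvd_of_le hle)
  rw [hje, hB]
  rcases (show j = 2 ∨ j ≤ 1 by omega) with rfl | hj1
  · exact le_rfl
  exfalso
  have hz : AddSubgroup.zmultiples v ≤ AddSubgroup.closure ({v, w} : Set V) :=
    AddSubgroup.zmultiples_le_of_mem (AddSubgroup.subset_closure (Or.inl rfl))
  have : AddSubgroup.zmultiples v = AddSubgroup.closure ({v, w} : Set V) := by
    refine AddSubgroup.eq_of_le_of_card_ge hz ?_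
    rw [hje, card_zmultiples hexp hv0]
    calc p ^ j ≤ p ^ 1 := Nat.pow_le_pow_right hp.out.pos hj1
      _ = p := pow_one p
  exact hwv (this ▸ AddSubgroup.subset_closure (Or.inr rfl))

/-- The subgroups of order `p ^ 2` are counted by the generating pairs. -/
theorem card_planes (hexp : ∀ v : V, p • v = 0) :
    Nat.card {B : AddSubgroup V // Nat.card B = p ^ 2} * ((p ^ 2 - 1) * (p ^ 2 - p)) =
      (Nat.card V - 1) * (Nat.card V - p) := by
  classical
  have hplane : ∀ (v : {v : V // v ∈ (⊤ : AddSubgroup V) ∧ v ≠ 0})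
      (w : {w : V // w ∈ (⊤ : AddSubgroup V) ∧ w ∉ AddSubgroup.zmultiples (v : V)}),
      Nat.card (AddSubgroup.closure ({(v : V), (w : V)} : Set V)) = p ^ 2 := by
    rintro ⟨v, -, hv⟩ ⟨w, -, hw⟩
    have hw0 : w ≠ 0 := by rintro rfl; exact hw (zero_mem _)
    have hdisj : Disjoint (AddSubgroup.zmultiples v) (AddSubgroup.zmultiples w) := by
      rw [AddSubgroup.disjoint_def]
      intro x hxv hxw
      by_contra hx
      have e : AddSubgroup.zmultiples x = AddSubgroup.zmultiples w :=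
        AddSubgroup.eq_of_le_of_card_ge (AddSubgroup.zmultiples_le_of_mem hxw)
          (by rw [card_zmultiples hexp hx, card_zmultiples hexp hw0])
      exact hw (AddSubgroup.zmultiples_le_of_mem hxv (e ▸ AddSubgroup.mem_zmultiples w))
    let f : AddSubgroup.zmultiples v × AddSubgroup.zmultiples w → V := fun x => (x.1 : V) + x.2
    have hf : Function.Injective f := AddSubgroup.add_injective_of_disjoint hdisj
    have hr : Set.range f = (AddSubgroup.closure ({v, w} : Set V) : Set V) := by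
      ext x
      rw [SetLike.mem_coe, AddSubgroup.mem_closure_pair]
      constructor
      · rintro ⟨⟨⟨a, ha⟩, ⟨b, hb⟩⟩, rfl⟩
        obtain ⟨i, rfl⟩ := AddSubgroup.mem_zmultiples_iff.1 ha
        obtain ⟨j, rfl⟩ := AddSubgroup.mem_zmultiples_iff.1 hb
        exact ⟨i, j, rfl⟩
      · rintro ⟨i, j, rfl⟩
        exact ⟨⟨⟨i • v, AddSubgroup.mem_zmultiples_iff.2 ⟨i, rfl⟩⟩,
          ⟨j • w, AddSubgroup.mem_zmultiples_iff.2 ⟨j, rfl⟩⟩⟩, rfl⟩
    show Nat.card ((AddSubgroup.closure ({v, w} : Set V) : Set V)) = p ^ 2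
    rw [← hr, Nat.card_range_of_injective hf, Nat.card_prod, card_zmultiples hexp hv,
      card_zmultiples hexp hw0, pow_two]
  have e : pairs (⊤ : AddSubgroup V) ≃ Σ B : {B : AddSubgroup V // Nat.card B = p ^ 2}, pairs (B : AddSubgroup V) :=
    { toFun := fun x => ⟨⟨_, hplane x.1 x.2⟩,
        ⟨⟨x.1.1, AddSubgroup.subset_closure (Or.inl rfl), x.1.2.2⟩,
          ⟨x.2.1, AddSubgroup.subset_closure (Or.inr rfl), x.2.2.2⟩⟩⟩
      invFun := fun x => ⟨⟨x.2.1.1, trivial, x.2.1.2.2⟩, ⟨x.2.2.1, trivial, x.2.2.2.2⟩⟩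
      left_inv := fun _ => rfl
      right_inv := by
        rintro ⟨⟨B, hB⟩, ⟨v, hv, hv0⟩, ⟨w, hw, hwv⟩⟩
        obtain rfl := closure_pair hexp hB hv hv0 hw hwv
        rfl }
  have h := Nat.card_congr e
  haveI : Fintype {B : AddSubgroup V // Nat.card B = p ^ 2} := Fintype.ofFinite _
  rw [Nat.card_sigma, card_pairs hexp, AddSubgroup.card_top,
    Finset.sum_congr rfl (fun B _ => by rw [card_pairs hexp, B.2]), Finset.sum_const, Finset.card_univ,
    smul_eq_mul, ← Nat.card_eq_fintype_card] at h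
  exact h.symm

end Count

section Linear

variable {V : Type*} [AddCommGroup V] [Module (ZMod p) V] [Finite V]

theorem hexp (v : V) : p • v = 0 := by
  rw [← Nat.cast_smul_eq_nsmul (ZMod p), ZMod.natCast_self, zero_smul]

/-- The fixed points of a group of automorphisms. -/
def fixed (M : Subgroup (V ≃ₗ[ZMod p] V)) : AddSubgroup V where
  carrier := {v | ∀ m ∈ M, m v = v}
  zero_mem' := fun m _ => map_zero m
  add_mem' := fun {a b} ha hb m hm => by rw [map_add, ha m hm, hb m hm]
  neg_mem' := fun {a} ha m hm => by rw [map_neg, ha m hm]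

theorem fixed_invariant {M H : Subgroup (V ≃ₗ[ZMod p] V)} (hn : ∀ h ∈ H, ∀ m ∈ M, h⁻¹ * m * h ∈ M)
    {h : V ≃ₗ[ZMod p] V} (hh : h ∈ H) {v : V} (hv : v ∈ fixed M) : h v ∈ fixed M := by
  intro m hm
  have := hv _ (hn h hh m hm)
  calc m (h v) = h ((h⁻¹ * m * h) v) := by
        show m (h v) = h (h.symm (m (h v))); rw [LinearEquiv.apply_symm_apply]
    _ = h v := by rw [this]

theorem card_fixed_modEq {r : ℕ} [Fact r.Prime] {M : Subgroup (V ≃ₗ[ZMod p] V)} (hM : IsPGroup r M) :
    Nat.card V ≡ Nat.card (fixed M) [MOD r] := by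
  letI : MulAction M V := MulAction.compHom V M.subtype
  refine (hM.card_modEq_card_fixedPoints V).trans ?_
  rw [show Nat.card (MulAction.fixedPoints M V) = Nat.card (fixed M) from Nat.card_congr
    (Equiv.subtypeEquivRight fun v => ⟨fun h m hm => h ⟨m, hm⟩, fun h m => h m m.2⟩)]

/-- No solvable group of automorphisms of an elementary abelian group of order `81` has order divisible by `65`. -/
theorem not_sixtyfive [Fact (p = 3)] (hV : Nat.card V = 81) (L : Subgroup (V ≃ₗ[ZMod p] V)) [Finite L]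
    (hL : Group.IsSolvable L) (h5 : 5 ∣ Nat.card L) (h13 : 13 ∣ Nat.card L) : False := by
  classical
  have hp3 : p = 3 := Fact.out
  subst hp3
  haveI : Finite (V ≃ₗ[ZMod 3] V) := Finite.of_injective _ DFunLike.coe_injective
  set N := Nat.card L with hN
  have hN0 : N ≠ 0 := Nat.card_pos.ne'
  -- a Hall subgroup for the primes five and thirteen
  set a := ordProj[5] N with ha
  set b := ordProj[13] N with hb
  have hab : a.Coprime b := Nat.Coprime.pow _ _ (by norm_num)
  have hd : a * b ∣ N := hab.mul_dvd_of_dvd_of_dvd (Nat.ordProj_dvd _ _) (Nat.ordProj_dvd _ _)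
  obtain ⟨c, hc⟩ := hd
  have hcop : (a * b).Coprime c := by
    have hc0 : c ≠ 0 := fun e => hN0 (by rw [hc, e, mul_zero])
    have key : ∀ q : ℕ, q.Prime → ordProj[q] N ∣ a * b → ¬ q ∣ c := by
      intro q hq hdv hqc
      have h : q ^ (N.factorization q + 1) ∣ N := by
        rw [pow_succ, hc]
        exact mul_dvd_mul (by rw [← hc]; exact hdv) hqc
      exact Nat.pow_succ_factorization_not_dvd hN0 hq h
    refine Nat.Coprime.mul_left ?_ ?_
    · exact Nat.Coprime.pow_left _ ((Nat.prime_five.coprime_iff_not_dvd).2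
        (key 5 Nat.prime_five (dvd_mul_right _ _)))
    · exact Nat.Coprime.pow_left _ (((by norm_num : Nat.Prime 13).coprime_iff_not_dvd).2
        (key 13 (by norm_num) (dvd_mul_left _ _)))
  obtain ⟨H₀, hH₀⟩ := Cfsg.Agent.S0003.result (G := L) (a * b) c hc hcop
  set H : Subgroup (V ≃ₗ[ZMod 3] V) := H₀.map L.subtype with hH
  have hcardH : Nat.card H = a * b := by
    rw [hH, Subgroup.card_map_of_injective L.subtype_injective, hH₀]
  have hsolH : Group.IsSolvable H :=
    solvable_of_surjective (G := H₀) (f := (H₀.equivMapOfInjective _ L.subtype_injective).toMonoidHom)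
      (H₀.equivMapOfInjective _ L.subtype_injective).surjective
  have h5H : 5 ∣ Nat.card H := hcardH ▸ (dvd_mul_of_dvd_left (dvd_pow_self 5
    (Nat.pos_iff_ne_zero.1 (Nat.prime_five.factorization_pos_of_dvd hN0 h5))) _)
  have h13H : 13 ∣ Nat.card H := hcardH ▸ (dvd_mul_of_dvd_right (dvd_pow_self 13
    (Nat.pos_iff_ne_zero.1 ((by norm_num : Nat.Prime 13).factorization_pos_of_dvd hN0 h13))) _)
  haveI : Fact (Nat.Prime 5) := ⟨Nat.prime_five⟩
  haveI : Fact (Nat.Prime 13) := ⟨by norm_num⟩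
  obtain ⟨f, hf⟩ := exists_prime_orderOf_dvd_card' 5 h5H
  obtain ⟨g, hg⟩ := exists_prime_orderOf_dvd_card' 13 h13H
  -- fixed points of non-trivial groups of order prime to three
  have hfix : ∀ (r : ℕ) [Fact r.Prime] (M : Subgroup (V ≃ₗ[ZMod 3] V)), M ≠ ⊥ → IsPGroup r M →
      ∃ j, j ≤ 3 ∧ Nat.card (fixed M) = 3 ^ j ∧ 81 ≡ 3 ^ j [MOD r] := by
    intro r _ M hM hMr
    obtain ⟨j, hj, hje⟩ := (Nat.dvd_prime_pow Nat.prime_three).1
      (show Nat.card (fixed M) ∣ 3 ^ 4 by
        rw [show (3 : ℕ) ^ 4 = 81 by norm_num, ← hV]; exact AddSubgroup.card_addSubgroup_dvd_card _)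
    refine ⟨j, ?_, hje, ?_⟩
    · rcases Nat.lt_or_ge j 4 with h | h
      · omega
      exfalso
      obtain rfl : j = 4 := by omega
      have htop : fixed M = ⊤ := AddSubgroup.eq_top_of_card_eq _ (by rw [hje, hV]; norm_num)
      refine hM (eq_bot_iff.2 fun m hm => Subgroup.mem_bot.2 (LinearEquiv.ext fun v => ?_))
      exact (htop ▸ AddSubgroup.mem_top v : v ∈ fixed M) m hm
    · have := card_fixed_modEq hMr
      rwa [hV, hje] at this
  -- an element of order thirteen fixes exactly a line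
  have hg13 : ∀ M : Subgroup (V ≃ₗ[ZMod 3] V), M ≠ ⊥ → IsPGroup 13 M → Nat.card (fixed M) = 3 := by
    intro M hM hMr
    obtain ⟨j, hj, hje, hmod⟩ := hfix 13 M hM hMr
    unfold Nat.ModEq at hmod; interval_cases j <;> first | (norm_num at hmod; done) | simpa using hje
  -- such a line is not invariant under an element of order five
  have hline : ∀ (x : H) (A : AddSubgroup V), orderOf x = 5 → Nat.card A = 3 →
      (∀ v ∈ A, (x : V ≃ₗ[ZMod 3] V) v ∈ A) → False := by
    intro x A hx hA hinv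
    set X := Subgroup.zpowers (x : V ≃ₗ[ZMod 3] V) with hX
    have hXc : Nat.card X = 5 := by rw [hX, Nat.card_zpowers, Subgroup.orderOf_coe, hx]
    have hXp : IsPGroup 5 X := IsPGroup.of_card (n := 1) (by rw [hXc, pow_one])
    have hXne : X ≠ ⊥ := fun e => by rw [e, Subgroup.card_bot] at hXc; norm_num at hXc
    obtain ⟨j, hj, hje, hmod⟩ := hfix 5 X hXne hXp
    have hfix1 : Nat.card (fixed X) = 1 := by unfold Nat.ModEq at hmod; interval_cases j <;> first | (norm_num at hmod; done) | simpa using hje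
    -- `x` moves the two non-zero elements of `A` in orbits of length dividing two
    haveI : Fintype A := Fintype.ofFinite _
    let σ : Equiv.Perm A := Equiv.ofBijective (fun v => ⟨(x : V ≃ₗ[ZMod 3] V) v, hinv v v.2⟩)
      ((Finite.injective_iff_bijective).1 fun v w h => Subtype.ext
        ((x : V ≃ₗ[ZMod 3] V).injective (congrArg Subtype.val h)))
    have hpow : ∀ (k : ℕ) (v : A), (((σ ^ k) v : A) : V) = ((x : V ≃ₗ[ZMod 3] V) ^ k) v := by
      intro k
      induction k with
      | zero => intro v; rfl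
      | succ k ih =>
        intro v
        rw [pow_succ', pow_succ']
        show (x : V ≃ₗ[ZMod 3] V) (((σ ^ k) v : A) : V) = _
        rw [ih v]; rfl
    have hx5 : σ ^ 5 = 1 := Equiv.ext fun v => Subtype.ext (by
      rw [hpow, ← SubmonoidClass.coe_pow, ← hx, pow_orderOf_eq_one]; rfl)
    have hd1 : orderOf σ ∣ 5 := orderOf_dvd_of_pow_eq_one hx5
    have hd2 : orderOf σ ∣ 6 := by
      have := orderOf_dvd_natCard σ
      rwa [Nat.card_perm, hA] at this
    have hσ : σ = 1 := by
      rw [← orderOf_eq_one_iff]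
      exact Nat.dvd_one.1 ((Nat.dvd_gcd hd1 hd2).trans (by norm_num))
    have hsub : A ≤ fixed X := by
      intro v hv m hm
      have hxv : (x : V ≃ₗ[ZMod 3] V) v = v :=
        congrArg Subtype.val (Equiv.ext_iff.1 hσ ⟨v, hv⟩)
      have hle : X ≤ MulAction.stabilizer (V ≃ₗ[ZMod 3] V) v := Subgroup.zpowers_le.2 hxv
      exact hle hm
    have := AddSubgroup.card_dvd_of_le hsub
    rw [hA, hfix1] at this
    norm_num at this
  -- a non-trivial normal abelian subgroup of prime exponent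
  haveI : Nontrivial H := by
    refine ⟨f, 1, fun e => ?_⟩
    rw [e, orderOf_one] at hf
    norm_num at hf
  obtain ⟨A, hAn, hAne, hAc⟩ : ∃ A : Subgroup H, A.Normal ∧ A ≠ ⊥ ∧ IsMulCommutative A := by
    obtain ⟨k, hk⟩ := hsolH.solvable
    have hex : ∃ k, derivedSeries H k = ⊥ := ⟨k, hk⟩
    have hk0 : Nat.find hex ≠ 0 := fun e => by
      have := Nat.find_spec hex
      rw [e, derivedSeries_zero] at this
      exact top_ne_bot this
    refine ⟨derivedSeries H (Nat.find hex - 1), derivedSeries_normal H _,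
      Nat.find_min hex (by omega), ⟨⟨fun u v => Subtype.ext ?_⟩⟩⟩
    have hc := Subgroup.commutator_mem_commutator u.2 v.2
    rw [← derivedSeries_succ, show Nat.find hex - 1 + 1 = Nat.find hex by omega,
      Nat.find_spec hex, Subgroup.mem_bot, commutatorElement_eq_one_iff_mul_comm] at hc
    exact hc
  obtain ⟨r, hr, hrA⟩ := Nat.exists_prime_and_dvd (n := Nat.card A)
    (fun e => hAne (Subgroup.card_eq_one.1 e))
  haveI : Fact r.Prime := ⟨hr⟩
  let M₀ : Subgroup H :=
    { carrier := {x | x ∈ A ∧ x ^ r = 1}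
      one_mem' := ⟨A.one_mem, one_pow r⟩
      mul_mem' := fun {u v} hu hv => ⟨A.mul_mem hu.1 hv.1, by
        have : Commute u v := congrArg Subtype.val (hAc.is_comm.comm ⟨u, hu.1⟩ ⟨v, hv.1⟩)
        rw [this.mul_pow, hu.2, hv.2, one_mul]⟩
      inv_mem' := fun {u} hu => ⟨A.inv_mem hu.1, by rw [inv_pow, hu.2, inv_one]⟩ }
  have hM₀n : ∀ (h : H), ∀ m ∈ M₀, h⁻¹ * m * h ∈ M₀ := fun h m hm =>
    ⟨hAn.conj_mem' m hm.1 h, by
      have e := conj_pow (a := h⁻¹) (b := m) (i := r)
      rw [inv_inv, hm.2, mul_one, inv_mul_cancel] at e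
      exact e⟩
  obtain ⟨u, hu⟩ := exists_prime_orderOf_dvd_card' r hrA
  have hu1 : (u : H) ≠ 1 := fun e => by
    rw [← Subgroup.orderOf_coe, e, orderOf_one] at hu
    exact hr.one_lt.ne' hu.symm
  have huM : (u : H) ∈ M₀ := ⟨u.2, by rw [← hu, ← Subgroup.orderOf_coe, pow_orderOf_eq_one]⟩
  set M := M₀.map H.subtype with hM
  have hMne : M ≠ ⊥ := fun e => hu1 (Subtype.ext (Subgroup.mem_bot.1
    (e ▸ Subgroup.mem_map_of_mem H.subtype huM)))
  have hMp : IsPGroup r M := (show IsPGroup r M₀ from fun x => ⟨1, Subtype.ext (by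
    rw [pow_one, SubmonoidClass.coe_pow]; exact x.2.2)⟩).map _
  have hMn : ∀ h ∈ H, ∀ m ∈ M, h⁻¹ * m * h ∈ M := by
    rintro h hh _ ⟨m, hm, rfl⟩
    exact ⟨⟨h, hh⟩⁻¹ * m * ⟨h, hh⟩, hM₀n _ m hm, rfl⟩
  have hr' : r = 5 ∨ r = 13 := by
    have hru : r ∣ Nat.card H := hrA.trans (Subgroup.card_subgroup_dvd_card A)
    rw [hcardH] at hru
    rcases hr.dvd_mul.1 hru with h | h
    · exact Or.inl ((Nat.prime_dvd_prime_iff_eq hr Nat.prime_five).1 (hr.dvd_of_dvd_pow h))
    · exact Or.inr ((Nat.prime_dvd_prime_iff_eq hr (by norm_num)).1 (hr.dvd_of_dvd_pow h))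
  rcases hr' with rfl | rfl
  · -- the group `M` acts semiregularly; look at an orbit of a fixed point of `g`
    obtain ⟨j, hj, hje, hmod⟩ := hfix 5 M hMne hMp
    set X := Subgroup.zpowers (g : V ≃ₗ[ZMod 3] V) with hX
    have hXc : Nat.card X = 13 := by rw [hX, Nat.card_zpowers, Subgroup.orderOf_coe, hg]
    have hXp : IsPGroup 13 X := IsPGroup.of_card (n := 1) (by rw [hXc, pow_one])
    have hXne : X ≠ ⊥ := fun e => by rw [e, Subgroup.card_bot] at hXc; norm_num at hXc
    have hX3 := hg13 X hXne hXp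
    have hM1 : Nat.card (fixed M) = 1 := by unfold Nat.ModEq at hmod; interval_cases j <;> first | (norm_num at hmod; done) | simpa using hje
    obtain ⟨v, hvX, hv0⟩ : ∃ v ∈ fixed X, v ≠ 0 := by
      by_contra hc
      push Not at hc
      rw [AddSubgroup.card_eq_one.2 ((AddSubgroup.eq_bot_iff_forall _).2 hc)] at hX3
      norm_num at hX3
    letI : MulAction M V := MulAction.compHom V M.subtype
    set O := MulAction.orbit M v with hO
    have hOinv : ∀ w ∈ O, (g : V ≃ₗ[ZMod 3] V) w ∈ O := by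
      rintro _ ⟨m, rfl⟩
      have hgv : (g : V ≃ₗ[ZMod 3] V) v = v := hvX _ (Subgroup.mem_zpowers _)
      refine ⟨⟨_, hMn (g : V ≃ₗ[ZMod 3] V)⁻¹ (inv_mem g.2) m m.2⟩, ?_⟩
      show (((g : V ≃ₗ[ZMod 3] V)⁻¹)⁻¹ * (m : V ≃ₗ[ZMod 3] V) * (g : V ≃ₗ[ZMod 3] V)⁻¹) v =
        (g : V ≃ₗ[ZMod 3] V) ((m : V ≃ₗ[ZMod 3] V) v)
      rw [inv_inv]
      show (g : V ≃ₗ[ZMod 3] V) ((m : V ≃ₗ[ZMod 3] V) ((g : V ≃ₗ[ZMod 3] V).symm v)) = _
      rw [(LinearEquiv.symm_apply_eq _).2 hgv.symm]
    obtain ⟨i, hi⟩ := hMp.card_orbit v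
    have hOne : Nat.card O ≠ 1 := by
      intro e
      obtain ⟨hss, -⟩ := Nat.card_eq_one_iff_unique.1 e
      have hvM : v ∈ fixed M := fun m hm => congrArg Subtype.val
        (hss.elim (⟨_, ⟨m, hm⟩, rfl⟩ : O) ⟨v, MulAction.mem_orbit_self v⟩)
      rw [AddSubgroup.card_eq_one.1 hM1, AddSubgroup.mem_bot] at hvM
      exact hv0 hvM
    have hO81 : Nat.card O ≤ 81 := hV ▸ Finite.card_subtype_le _
    -- `g` acts on the orbit
    have hXO : ∀ w ∈ O, ∀ m : X, (m : V ≃ₗ[ZMod 3] V) w ∈ O := by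
      rintro w hw ⟨m, hm⟩
      obtain ⟨k, rfl⟩ := (mem_powers_iff_mem_zpowers.2 hm)
      show ((g : V ≃ₗ[ZMod 3] V) ^ k) w ∈ O
      induction k with
      | zero => exact hw
      | succ k ih => rw [pow_succ']; exact hOinv _ (ih (Subgroup.npow_mem_zpowers _ _))
    letI : MulAction X O :=
      { smul := fun m w => ⟨(m : V ≃ₗ[ZMod 3] V) w, hXO w w.2 m⟩
        one_smul := fun _ => Subtype.ext rfl
        mul_smul := fun _ _ _ => Subtype.ext rfl }
    have hmodO := hXp.card_modEq_card_fixedPoints O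
    have hle : Nat.card (MulAction.fixedPoints X O) ≤ 3 := by
      refine (Nat.card_le_card_of_injective
        (fun w => (⟨(w.1 : V), fun m hm => congrArg Subtype.val (w.2 ⟨m, hm⟩)⟩ : fixed X)) ?_).trans_eq hX3
      intro w w' h
      exact Subtype.ext (Subtype.ext (congrArg Subtype.val h : _))
    have hi' : Nat.card O = 5 ^ i := hi
    rw [hi'] at hO81 hOne hmodO
    have hi2 : i ≤ 2 := by
      by_contra hc
      have := Nat.pow_le_pow_right (show 1 ≤ 5 by norm_num) (show 3 ≤ i by omega)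
      omega
    interval_cases i
    · simp at hOne
    · simp only [Nat.ModEq] at hmodO; omega
    · simp only [Nat.ModEq] at hmodO; omega
  · exact hline f (fixed M) hf (hg13 M hMne hMp) (fun v hv => fixed_invariant hMn f.2 hv)

theorem exceptional_degree {p n : ℕ} (hp : p.Prime) (hn : 3 ≤ n) (hp8 : p ≤ 8) (hn9 : n ≤ 9)
    (h : p ^ n ∈ ({9, 25, 49, 121, 529, 81} : Set ℕ)) : p = 3 ∧ n = 4 := by
  have := hp.two_le
  interval_cases p <;> interval_cases n <;> first | (norm_num at h; done) | (norm_num at hp; done) | exact ⟨rfl, rfl⟩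

/-- A group of automorphisms, enlarged by the scalars. -/
theorem main {n : ℕ} (hn : 3 ≤ n) (hV : Nat.card V = p ^ n) (L : Subgroup (V ≃ₗ[ZMod p] V)) [Finite L]
    (hL : Group.IsSolvable L)
    (htr : ∀ A B : AddSubgroup V, Nat.card A = Nat.card B → ∃ g ∈ L, ∀ v, v ∈ A ↔ g v ∈ B) :
    ∃ e : V ≃+ GaloisField p n, (∀ g ∈ L, ∃ (a : GaloisField p n) (σ : GaloisField p n ≃+* GaloisField p n),
        ∀ v, e (g v) = a * σ (e v)) ∧
      ((n = 3 ∧ (p = 2 → Nat.card L = 21 ∨ (Nat.card L = 7 ∧ ∀ g ∈ L, ∃ a : GaloisField p n,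
        ∀ v, e (g v) = a * e v))) ∨ (n = 5 ∧ p = 2 ∧ Nat.card L = 155)) := by
  classical
  have hP := hp.out
  haveI : Nontrivial V := by
    rw [← Finite.one_lt_card_iff_nontrivial, hV]
    exact Nat.one_lt_pow (by omega) hP.one_lt
  haveI : Finite (V ≃ₗ[ZMod p] V) := Finite.of_injective _ DFunLike.coe_injective
  -- adjoin the scalars
  let sc : (ZMod p)ˣ →* (V ≃ₗ[ZMod p] V) := DistribMulAction.toModuleAut (ZMod p) V
  let φ : L × (ZMod p)ˣ →* (V ≃ₗ[ZMod p] V) := MonoidHom.noncommCoprod L.subtype sc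
    (fun g c => LinearEquiv.ext fun v => map_smul (g : V ≃ₗ[ZMod p] V) (c : ZMod p) v)
  have hφ : ∀ (g : L) (c : (ZMod p)ˣ), φ (g, c) = (g : V ≃ₗ[ZMod p] V) * sc c := fun _ _ => rfl
  set K := φ.range with hK
  haveI := hL
  have hKsol : Group.IsSolvable K := solvable_of_surjective φ.rangeRestrict_surjective
  have htr' : ∀ v w : V, v ≠ 0 → w ≠ 0 → ∃ g : K, K.subtype g v = w := by
    intro v w hv hw
    obtain ⟨g, hg, hgi⟩ := htr (AddSubgroup.zmultiples v) (AddSubgroup.zmultiples w)
      (by rw [card_zmultiples (hexp (p := p)) hv, card_zmultiples (hexp (p := p)) hw])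
    obtain ⟨k, hk⟩ := AddSubgroup.mem_zmultiples_iff.1 ((hgi v).1 (AddSubgroup.mem_zmultiples v))
    have hk0 : ((k : ℤ) : ZMod p) ≠ 0 := by
      intro e
      rw [← Int.cast_smul_eq_zsmul (ZMod p), e, zero_smul] at hk
      exact hv ((LinearEquiv.map_eq_zero_iff g).1 hk.symm)
    refine ⟨⟨φ (⟨g, hg⟩, (Units.mk0 _ hk0)⁻¹), ⟨_, rfl⟩⟩, ?_⟩
    show g (((Units.mk0 _ hk0)⁻¹ : (ZMod p)ˣ) • v) = w
    rw [Units.smul_def, map_smul, ← hk, ← Int.cast_smul_eq_zsmul (ZMod p), smul_smul,
      Units.val_inv_eq_inv_val, Units.val_mk0, inv_mul_cancel₀ hk0, one_smul]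
  -- planes
  set S := {B : AddSubgroup V // Nat.card B = p ^ 2} with hS
  haveI : Nonempty S := by
    obtain ⟨T, hT⟩ := Sylow.exists_subgroup_card_pow_prime (G := Multiplicative V) p (n := 2) (by
      show p ^ 2 ∣ Nat.card V
      rw [hV]; exact Nat.pow_dvd_pow p (by omega))
    exact ⟨⟨Subgroup.toAddSubgroup' T, hT⟩⟩
  letI : MulAction K S :=
    { smul := fun g B => ⟨(B : AddSubgroup V).map ((g : V ≃ₗ[ZMod p] V).toAddEquiv : V →+ V), by
        rw [AddSubgroup.card_map_of_injective (g : V ≃ₗ[ZMod p] V).injective, B.2]⟩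
      one_smul := fun B => Subtype.ext (AddSubgroup.map_id _)
      mul_smul := fun g h B => Subtype.ext (AddSubgroup.ext fun x => by
        constructor
        · rintro ⟨y, hy, e⟩
          exact ⟨_, ⟨y, hy, rfl⟩, e⟩
        · rintro ⟨_, ⟨y, hy, rfl⟩, e⟩
          exact ⟨y, hy, e⟩) }
  haveI : MulAction.IsPretransitive K S := ⟨fun A B => by
    obtain ⟨g, hg, hgi⟩ := htr (A : AddSubgroup V) B (A.2.trans B.2.symm)
    refine ⟨⟨g, ⟨(⟨g, hg⟩, 1), ?_⟩⟩, Subtype.ext (AddSubgroup.ext fun x => ?_)⟩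
    · rw [hφ, map_one, mul_one]
    · constructor
      · rintro ⟨y, hy, rfl⟩
        exact (hgi y).1 hy
      · intro hx
        exact ⟨g.symm x, (hgi _).2 (by rwa [LinearEquiv.apply_symm_apply]), g.apply_symm_apply x⟩⟩
  obtain ⟨B₀⟩ := (inferInstance : Nonempty S)
  have horb := MulAction.index_stabilizer_of_transitive K B₀
  have hstab : p - 1 ∣ Nat.card (MulAction.stabilizer K B₀) := by
    let t : (ZMod p)ˣ →* MulAction.stabilizer K B₀ :=
      { toFun := fun c => ⟨⟨sc c, ⟨((1 : L), c), by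
            rw [hφ]; exact one_mul (sc c)⟩⟩,
          Subtype.ext (AddSubgroup.eq_of_le_of_card_ge (by
            rintro _ ⟨y, hy, rfl⟩
            show (c : ZMod p) • y ∈ (B₀ : AddSubgroup V)
            rw [show (c : ZMod p) • y = ((c : ZMod p).val) • y by
              rw [← Nat.cast_smul_eq_nsmul (ZMod p), ZMod.natCast_zmod_val]]
            exact nsmul_mem hy _) (by
            exact (AddSubgroup.card_map_of_injective (sc c).injective).ge))⟩
        map_one' := Subtype.ext (Subtype.ext (map_one sc))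
        map_mul' := fun c d => Subtype.ext (Subtype.ext (map_mul sc c d)) }
    have ht : Function.Injective t := by
      intro c d h
      obtain ⟨v, hv⟩ := exists_ne (0 : V)
      have := congrArg (fun z : MulAction.stabilizer K B₀ => ((z : K) : V ≃ₗ[ZMod p] V) v) h
      exact Units.ext (smul_left_injective (ZMod p) hv this)
    have := Subgroup.card_dvd_of_injective t ht
    rwa [Nat.card_units, Nat.card_zmod] at this
  have hN2 : Nat.card S * (p - 1) ∣ Nat.card K := by
    rw [← horb, ← Subgroup.index_mul_card (MulAction.stabilizer K B₀)]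
    exact mul_dvd_mul_left _ hstab
  have hpl := card_planes (V := V) (hexp (p := p))
  rw [hV, ← hS] at hpl
  have hKL : Nat.card K ∣ Nat.card L * (p - 1) := by
    have := Subgroup.card_dvd_of_surjective φ.rangeRestrict φ.rangeRestrict_surjective
    rwa [Nat.card_prod, Nat.card_units, Nat.card_zmod] at this
  -- Huppert's theorem
  rcases Cfsg.Lib.SolvableTransitive.main hKsol K.subtype K.subtype_injective htr' with
    ⟨F, hF, hFt, e₀, he₀⟩ | hexc
  swap
  · -- order eighty-one
    exfalso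
    rw [hV] at hexc
    have hp7 : p ≤ 8 := by
      by_contra hc
      have h1 : 9 ^ 3 ≤ p ^ n := (Nat.pow_le_pow_left (by omega) 3).trans (Nat.pow_le_pow_right hP.pos hn)
      simp only [Set.mem_insert_iff, Set.mem_singleton_iff] at hexc
      norm_num at h1
      omega
    have hn10 : n ≤ 9 := by
      by_contra hc
      have h1 : 2 ^ 10 ≤ p ^ n :=
        (Nat.pow_le_pow_right (by norm_num) (by omega)).trans (Nat.pow_le_pow_left hP.two_le n)
      simp only [Set.mem_insert_iff, Set.mem_singleton_iff] at hexc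
      norm_num at h1
      omega
    obtain ⟨rfl, rfl⟩ := exceptional_degree hP hn hp7 hn10 hexc
    haveI : Fact ((3 : ℕ) = 3) := ⟨rfl⟩
    have hS' : Nat.card S = 130 := by norm_num at hpl; omega
    have hd := hN2.trans hKL
    rw [hS'] at hd
    refine not_sixtyfive (by rw [hV]; norm_num) L hL ?_ ?_
    · exact (Nat.Coprime.dvd_of_dvd_mul_right (by norm_num) ((show 5 ∣ 130 * (3 - 1) by norm_num).trans hd))
    · exact (Nat.Coprime.dvd_of_dvd_mul_right (by norm_num) ((show 13 ∣ 130 * (3 - 1) by norm_num).trans hd))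
  have hn0 : n ≠ 0 := by omega
  haveI : Fintype (GaloisField p n) := Fintype.ofFinite _
  have hFc : Fintype.card F = Fintype.card (GaloisField p n) := by
    rw [← Nat.card_eq_fintype_card, ← Nat.card_eq_fintype_card, GaloisField.card p n hn0, ← hV,
      Nat.card_congr e₀.toEquiv]
  let κ : F ≃+* GaloisField p n := FiniteField.ringEquivOfCardEq hFc
  let e : V ≃+ GaloisField p n := e₀.trans κ.toAddEquiv
  have hsl : ∀ g : K, ∃ (a : GaloisField p n) (σ : GaloisField p n ≃+* GaloisField p n),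
      ∀ v : V, e ((g : V ≃ₗ[ZMod p] V) v) = a * σ (e v) := by
    intro g
    obtain ⟨a, σ, h⟩ := he₀ g
    refine ⟨κ a, κ.symm.trans (σ.trans κ), fun v => ?_⟩
    show κ (e₀ (K.subtype g v)) = κ a * κ (σ (κ.symm (κ (e₀ v))))
    rw [h, map_mul, RingEquiv.symm_apply_apply]
  choose a σ has using hsl
  have ha0 : ∀ g, a g ≠ 0 := by
    intro g h
    obtain ⟨v, hv⟩ := exists_ne (0 : V)
    have := has g v
    rw [h, zero_mul, EmbeddingLike.map_eq_zero_iff, EmbeddingLike.map_eq_zero_iff] at this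
    exact hv this
  have ha1 : ∀ g : K, a g = e ((g : V ≃ₗ[ZMod p] V) (e.symm 1)) := by
    intro g; rw [has, AddEquiv.apply_symm_apply, map_one, mul_one]
  have hσu : ∀ (g : K) (b : GaloisField p n) (τ : GaloisField p n ≃+* GaloisField p n),
      (∀ v : V, e ((g : V ≃ₗ[ZMod p] V) v) = b * τ (e v)) → σ g = τ := by
    intro g b τ h
    have hb : b = a g := by rw [ha1, h, AddEquiv.apply_symm_apply, map_one, mul_one]
    refine RingEquiv.ext fun x => mul_left_cancel₀ (ha0 g) ?_
    rw [← hb]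
    have h1 := has g (e.symm x)
    rw [AddEquiv.apply_symm_apply, h (e.symm x), AddEquiv.apply_symm_apply, ← hb] at h1
    exact h1.symm
  let χ : K →* RingAut (GaloisField p n) :=
    { toFun := σ
      map_one' := hσu 1 1 1 fun v => by rw [one_mul]; rfl
      map_mul' := fun g h => hσu _ (a g * σ g (a h)) (σ g * σ h) fun v => by
        show e ((g : V ≃ₗ[ZMod p] V) ((h : V ≃ₗ[ZMod p] V) v)) = _
        rw [has, has, map_mul, mul_assoc]; rfl }
  have hker1 : ∀ g : χ.ker, ∀ v, e (((g : K) : V ≃ₗ[ZMod p] V) v) = a g * e v := by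
    intro g v
    have hg : σ (g : K) = 1 := g.2
    rw [has, hg]; rfl
  have hkerd : Nat.card χ.ker ∣ p ^ n - 1 := by
    let m : χ.ker →* (GaloisField p n)ˣ :=
      { toFun := fun g => Units.mk0 (a g) (ha0 g)
        map_one' := Units.ext (by
          show a ((1 : χ.ker) : K) = 1
          rw [ha1]
          exact e.apply_symm_apply 1)
        map_mul' := fun g h => Units.ext (by
          show a ((g * h : χ.ker) : K) = a g * a h
          rw [ha1]
          show e (((g : K) : V ≃ₗ[ZMod p] V) (((h : K) : V ≃ₗ[ZMod p] V) (e.symm 1))) = _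
          rw [hker1 g, hker1 h, AddEquiv.apply_symm_apply, mul_one]) }
    have hm : Function.Injective m := by
      intro g h hgh
      have hgh' : a (g : K) = a (h : K) := congrArg Units.val hgh
      refine Subtype.ext (Subtype.ext (LinearEquiv.ext fun v => e.injective ?_))
      rw [hker1 g, hker1 h, hgh']
    have := Subgroup.card_dvd_of_injective m hm
    rwa [Nat.card_units, GaloisField.card p n hn0] at this
  have hKd : Nat.card K ∣ n * (p ^ n - 1) := by
    rw [← Subgroup.index_mul_card χ.ker, Subgroup.index_ker]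
    refine mul_dvd_mul ?_ hkerd
    have := Subgroup.card_subgroup_dvd_card χ.range
    rwa [show Nat.card (RingAut (GaloisField p n)) = n from card_ringAut hn0] at this
  have hS0 := hN2.trans hKd
  -- the inequality
  have hpn : p ≤ p ^ n := Nat.le_self_pow hn0 p
  have hineq : p ^ (n - 1) - 1 ≤ n * (p ^ 2 - 1) := by
    have h1 : p ^ n - p = p * (p ^ (n - 1) - 1) := by
      rw [Nat.mul_sub, mul_one, ← pow_succ', show n - 1 + 1 = n by omega]
    have h2 : p ^ 2 - p = p * (p - 1) := by rw [Nat.mul_sub, mul_one, pow_two]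
    have hpos : 0 < n * (p ^ n - 1) := Nat.mul_pos (by omega) (by have := hP.two_le; omega)
    have hle := Nat.le_of_dvd hpos hS0
    have h3 : (p ^ n - 1) * p * (p ^ (n - 1) - 1) ≤ (p ^ n - 1) * p * (n * (p ^ 2 - 1)) := by
      calc (p ^ n - 1) * p * (p ^ (n - 1) - 1) = (Nat.card S * (p - 1)) * (p * (p ^ 2 - 1)) := by
            rw [mul_assoc, ← h1, ← hpl, h2]; ring
        _ ≤ n * (p ^ n - 1) * (p * (p ^ 2 - 1)) := Nat.mul_le_mul_right _ hle
        _ = _ := by ring
    exact Nat.le_of_mul_le_mul_left h3 (Nat.mul_pos (by have := hP.two_le; omega) hP.pos)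
  have hLK : ∀ g ∈ L, g ∈ K := fun g hg => ⟨(⟨g, hg⟩, 1), by
    rw [hφ, map_one, mul_one]⟩
  refine ⟨e, fun g hg => ⟨_, _, has ⟨g, hLK g hg⟩⟩, ?_⟩
  have hKL2 : p = 2 → K = L := by
    rintro rfl
    refine le_antisymm ?_ (fun g hg => hLK g hg)
    rintro _ ⟨⟨g, c⟩, rfl⟩
    rw [hφ, Subsingleton.elim c 1, map_one, mul_one]
    exact g.2
  rcases (show n = 3 ∨ n = 4 ∨ n = 5 ∨ 6 ≤ n by omega) with rfl | rfl | rfl | h6
  · refine Or.inl ⟨rfl, fun h => ?_⟩
    subst h
    have hS7 : Nat.card S = 7 := by norm_num at hpl; omega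
    have e1 := hKL2 rfl
    rw [hS7] at hS0
    have h21 : Nat.card L ∣ 21 := by rw [← e1]; simpa using hKd
    have h7 : 7 ∣ Nat.card L := by
      rw [← e1]; have := hN2; rw [hS7] at this; simpa using this
    have hc : Nat.card L = 7 ∨ Nat.card L = 21 := by
      have := Nat.le_of_dvd (by norm_num) h21
      obtain ⟨k, hk⟩ := h7
      obtain ⟨l, hl⟩ := h21
      have hk3 : k ≤ 3 := by omega
      have := Nat.card_pos (α := L)
      rw [hk] at hl
      interval_cases k <;> omega
    rcases hc with h | h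
    · refine Or.inr ⟨h, fun g hg => ⟨a ⟨g, hLK g hg⟩, fun v => hker1 ⟨⟨g, hLK g hg⟩, ?_⟩ v⟩⟩
      have hd : orderOf (χ ⟨g, hLK g hg⟩) ∣ Nat.gcd 7 3 := by
        refine Nat.dvd_gcd ((orderOf_map_dvd χ _).trans ?_) ?_
        · rw [← h, ← e1]; exact orderOf_dvd_natCard _
        · have := orderOf_dvd_natCard (χ ⟨g, hLK g hg⟩)
          rwa [show Nat.card (RingAut (GaloisField 2 3)) = 3 from card_ringAut (by norm_num)] at this
      exact orderOf_eq_one_iff.1 (Nat.dvd_one.1 hd)
    · exact Or.inl h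
  · exfalso
    have hp3 : p ≤ 3 := by
      by_contra hc
      have h1 : 4 * (p ^ 2 - 1) < p ^ 3 - 1 := by
        have h4 : 4 * p ^ 2 ≤ p ^ 3 := by rw [pow_succ' p 2]; exact Nat.mul_le_mul_right _ (by omega)
        have : 1 ≤ p ^ 2 := Nat.one_le_pow _ _ hP.pos
        omega
      norm_num at hineq
      omega
    have := hP.two_le
    rcases (show p = 2 ∨ p = 3 by omega) with rfl | rfl
    · have hS35 : Nat.card S = 35 := by norm_num at hpl; omega
      rw [hS35] at hS0; norm_num at hS0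
    · have hS130 : Nat.card S = 130 := by norm_num at hpl; omega
      rw [hS130] at hS0; norm_num at hS0
  · refine Or.inr ⟨rfl, ?_⟩
    obtain rfl : p = 2 := by
      by_contra hne
      have h9 : 9 ≤ p ^ 2 := Nat.pow_le_pow_left (show 3 ≤ p by have := hP.two_le; omega) 2
      have h4 : p ^ 4 = p ^ 2 * p ^ 2 := by ring
      have := Nat.mul_le_mul_right (p ^ 2) h9
      norm_num at hineq
      omega
    refine ⟨rfl, ?_⟩
    have hS155 : Nat.card S = 155 := by norm_num at hpl; omega
    rw [← hKL2 rfl]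
    rw [hS155] at hN2
    exact Nat.dvd_antisymm (by simpa using hKd) (by simpa using hN2)
  · exfalso
    obtain ⟨k, rfl⟩ : ∃ k, n = k + 6 := ⟨n - 6, by omega⟩
    have hgrow : ∀ k : ℕ, k + 6 < 2 ^ (k + 3) := by
      intro k
      induction k with
      | zero => norm_num
      | succ k ih => rw [show k + 1 + 3 = k + 3 + 1 by ring, pow_succ]; omega
    have h1 : (k + 6) * p ^ 2 < p ^ (k + 5) := by
      rw [show k + 5 = (k + 3) + 2 by ring, pow_add p (k + 3) 2]
      exact Nat.mul_lt_mul_of_pos_right ((hgrow k).trans_le (Nat.pow_le_pow_left hP.two_le _))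
        (pow_pos hP.pos 2)
    rw [show k + 6 - 1 = k + 5 by omega, Nat.mul_sub, mul_one] at hineq
    have : k + 6 ≤ (k + 6) * p ^ 2 := Nat.le_mul_of_pos_right _ (pow_pos hP.pos 2)
    omega

end Linear

end Cfsg.Lib.EquiTransitive
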