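import Mathlib
import Cfsg.Prelude.Def_Perm
import Cfsg.Agent.LinearPerm.EquiTransitive
import Cfsg.Agent.Components.Cores

/-!
# The normaliser of an elementary abelian Sylow subgroup with all subgroups of equal order conjugate

Modulo its `p'`-core such a normaliser, if solvable, is a group of semiaffine maps.
-/

set_option autoImplicit false

namespace Cfsg.Lib.EquiTransitive

open Cfsg
open scoped IsMulCommutative

variable {p n : ℕ} [hp : Fact p.Prime]

theorem card_semiaffine_le (hn : n ≠ 0) :
    Nat.card (Cfsg.semiaffineGroup (GaloisField p n)) ≤ (p ^ n - 1) * p ^ n * n := by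
  set F := GaloisField p n
  let f : Fˣ × F × (F ≃+* F) → Cfsg.semiaffineGroup F := fun t =>
    ⟨{ toFun := fun x => (t.1 : F) * t.2.2 x + t.2.1
       invFun := fun x => t.2.2.symm (((t.1⁻¹ : Fˣ) : F) * (x - t.2.1))
       left_inv := fun x => by simp
       right_inv := fun x => by simp },
      t.1, t.2.1, t.2.2, fun _ => rfl⟩
  have hf : Function.Surjective f := by
    rintro ⟨σ, a, b, φ, h⟩
    exact ⟨(a, b, φ), Subtype.ext (Equiv.ext fun x => (h x).symm)⟩
  haveI : Fintype F := Fintype.ofFinite _
  haveI : Finite (F ≃+* F) := Finite.of_injective _ DFunLike.coe_injective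
  refine (Nat.card_le_card_of_surjective f hf).trans_eq ?_
  rw [Nat.card_prod, Nat.card_prod, Nat.card_units, show Nat.card F = p ^ n from GaloisField.card p n hn,
    show Nat.card (F ≃+* F) = n from card_ringAut hn, mul_assoc]

theorem card_affine_le (hn : n ≠ 0) :
    Nat.card (Cfsg.affineGroup (GaloisField p n)) ≤ (p ^ n - 1) * p ^ n := by
  set F := GaloisField p n
  let f : Fˣ × F → Cfsg.affineGroup F := fun t =>
    ⟨{ toFun := fun x => (t.1 : F) * x + t.2
       invFun := fun x => ((t.1⁻¹ : Fˣ) : F) * (x - t.2)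
       left_inv := fun x => by simp
       right_inv := fun x => by simp },
      t.1, t.2, fun _ => rfl⟩
  have hf : Function.Surjective f := by
    rintro ⟨σ, a, b, h⟩
    exact ⟨(a, b), Subtype.ext (Equiv.ext fun x => (h x).symm)⟩
  haveI : Fintype F := Fintype.ofFinite _
  refine (Nat.card_le_card_of_surjective f hf).trans_eq ?_
  rw [Nat.card_prod, Nat.card_units]
  rw [show Nat.card F = p ^ n from GaloisField.card p n hn]

variable {M : Type*} [Group M] [Finite M]

theorem normalizer_quotient (hn : 3 ≤ n) (P : Subgroup M) [P.Normal] (hPc : Nat.card P = p ^ n)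
    (hidx : ¬ p ∣ P.index) (hcomm : IsMulCommutative P) (hpexp : ∀ a ∈ P, a ^ p = 1)
    (hsolv : Group.IsSolvable (M ⧸ pPrimeCore p M))
    (hfus : ∀ A B : Subgroup M, A ≤ P → B ≤ P → Nat.card A = Nat.card B →
      ∃ m : M, ∀ x, x ∈ A ↔ m * x * m⁻¹ ∈ B) :
    (n = 3 ∧ (∃ f : M ⧸ pPrimeCore p M →* ↥(Cfsg.semiaffineGroup (GaloisField p 3)), Function.Injective f) ∧
      (p = 2 → Nonempty (M ⧸ pPrimeCore p M ≃* Cfsg.semiaffineGroup (GaloisField 2 3)) ∨
               Nonempty (M ⧸ pPrimeCore p M ≃* Cfsg.affineGroup (GaloisField 2 3)))) ∨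
    (n = 5 ∧ p = 2 ∧ Nonempty (M ⧸ pPrimeCore p M ≃* Cfsg.semiaffineGroup (GaloisField 2 5))) := by
  classical
  have hP := hp.out
  have hcop : (Nat.card P).Coprime P.index := hPc ▸ ((hP.coprime_iff_not_dvd).2 hidx).pow_left n
  obtain ⟨Q, hQ⟩ := Subgroup.exists_right_complement'_of_coprime hcop
  set K := pPrimeCore p M with hK
  haveI := hcomm
  letI : CommGroup P := { mul_comm := hcomm.is_comm.comm }
  have hexp' : ∀ a : Additive P, p • a = 0 := fun a =>
    Additive.toMul.injective (Subtype.ext (by simpa using hpexp _ (Additive.toMul a).2))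
  letI : Module (ZMod p) (Additive P) := AddCommGroup.zmodModule (n := p) hexp'
  let conj : M →* (Additive P ≃ₗ[ZMod p] Additive P) :=
    { toFun := fun m => (MulEquiv.toAdditive (MulAut.conjNormal m : MulAut P)).toLinearEquiv
        (fun c x => ZMod.map_smul
          ((MulEquiv.toAdditive (MulAut.conjNormal m : MulAut P)).toAddMonoidHom) c x)
      map_one' := LinearEquiv.ext fun x => Additive.toMul.injective (Subtype.ext (by
        show (1 : M) * ((Additive.toMul x : P) : M) * (1 : M)⁻¹ = ((Additive.toMul x : P) : M)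
        group))
      map_mul' := fun g h => LinearEquiv.ext fun x => Additive.toMul.injective (Subtype.ext (by
        show (g * h) * ((Additive.toMul x : P) : M) * (g * h)⁻¹ =
          g * (h * ((Additive.toMul x : P) : M) * h⁻¹) * g⁻¹
        group)) }
  have hconj : ∀ (m : M) (x : Additive P),
      ((Additive.toMul (conj m x) : P) : M) = m * (Additive.toMul x : P) * m⁻¹ := fun m x => rfl
  have hconj1 : ∀ m : M, conj m = 1 → ∀ a ∈ P, m * a = a * m := by
    intro m hm a ha
    have h : m * a * m⁻¹ = a := by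
      have := congrArg (fun y : Additive P => ((Additive.toMul y : P) : M))
        (LinearEquiv.congr_fun hm (Additive.ofMul ⟨a, ha⟩))
      exact (hconj m _).symm.trans this
    exact mul_inv_eq_iff_eq_mul.1 h
  have hQc : Nat.card Q = P.index := (hQ.symm.index_eq_card).symm
  have hPQ : ∀ a : M, a ∈ P → a ∈ Q → a = 1 := fun a ha hq =>
    Subgroup.mem_bot.1 (hQ.disjoint.le_bot ⟨ha, hq⟩)
  -- the core
  have hKcop : (Nat.card K).Coprime p := Cfsg.Lib.Components.coprime_card_pPrimeCore p
  have hKQ : K ≤ Q := by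
    have h1 : Nat.card (K ⊔ Q : Subgroup M) ∣ Nat.card K * Nat.card Q :=
      Cfsg.Lib.Components.card_sup_dvd_mul K Q
    have h2 : Nat.card (K ⊔ Q : Subgroup M) ∣ Nat.card M := Subgroup.card_subgroup_dvd_card _
    have h3 : Nat.card (K ⊔ Q : Subgroup M) ∣ P.index := by
      rw [← Subgroup.card_mul_index P, hPc] at h2
      refine Nat.Coprime.dvd_of_dvd_mul_left ?_ h2
      refine Nat.Coprime.pow_right _ (Nat.Coprime.coprime_dvd_left h1 ?_)
      refine Nat.Coprime.mul_left hKcop ?_
      rw [hQc]
      exact ((hP.coprime_iff_not_dvd).2 hidx).symm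
    have : (Q : Subgroup M) = K ⊔ Q := Subgroup.eq_of_le_of_card_ge le_sup_right
      (hQc ▸ Nat.le_of_dvd (Nat.pos_of_ne_zero P.index_ne_zero_of_finite) h3)
    exact this ▸ le_sup_left
  have hKP : ∀ k ∈ K, conj k = 1 := by
    intro k hk
    refine LinearEquiv.ext fun x => ?_
    apply Additive.toMul.injective
    refine Subtype.ext ?_
    rw [hconj]
    show k * (Additive.toMul x : P) * k⁻¹ = (Additive.toMul x : P)
    have h1 : k * (Additive.toMul x : P) * k⁻¹ * ((Additive.toMul x : P) : M)⁻¹ ∈ P :=
      P.mul_mem ((inferInstance : P.Normal).conj_mem _ (Additive.toMul x).2 k) (P.inv_mem (Additive.toMul x).2)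
    have h2 : k * (Additive.toMul x : P) * k⁻¹ * ((Additive.toMul x : P) : M)⁻¹ ∈ K := by
      rw [mul_assoc, mul_assoc, ← mul_assoc ((Additive.toMul x : P) : M)]
      exact K.mul_mem hk ((inferInstance : K.Normal).conj_mem _ (K.inv_mem hk) _)
    exact mul_inv_eq_one.1 (hPQ _ h1 (hKQ h2))
  -- the linear group
  set L := conj.range with hL
  haveI : Finite L := Set.finite_range _
  have hLs : Group.IsSolvable L := by
    haveI := hsolv
    refine solvable_of_surjective (f := QuotientGroup.lift K conj.rangeRestrict (fun k hk =>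
      Subtype.ext (hKP k hk))) ?_
    rintro ⟨_, m, rfl⟩
    exact ⟨QuotientGroup.mk m, rfl⟩
  have hVc : Nat.card (Additive P) = p ^ n := hPc
  have htr : ∀ A B : AddSubgroup (Additive P), Nat.card A = Nat.card B →
      ∃ g ∈ L, ∀ v, v ∈ A ↔ g v ∈ B := by
    intro A B hAB
    obtain ⟨m, hm⟩ := hfus ((AddSubgroup.toSubgroup' A).map P.subtype)
      ((AddSubgroup.toSubgroup' B).map P.subtype) (Subgroup.map_subtype_le _) (Subgroup.map_subtype_le _)
      (by rw [Subgroup.card_map_of_injective P.subtype_injective,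
        Subgroup.card_map_of_injective P.subtype_injective]; exact hAB)
    refine ⟨conj m, ⟨m, rfl⟩, fun v => ?_⟩
    have key : ∀ (C : AddSubgroup (Additive P)) (w : Additive P),
        w ∈ C ↔ ((Additive.toMul w : P) : M) ∈ (AddSubgroup.toSubgroup' C).map P.subtype := fun C w =>
      (Subgroup.mem_map_iff_mem (P.subtype_injective) (K := AddSubgroup.toSubgroup' C)).symm
    rw [key A, key B, hconj]
    exact hm _
  obtain ⟨e, hsl, hcases⟩ := main hn hVc L hLs htr
  -- the action on the cosets of the complement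
  let ψ₀ : Additive P → M ⧸ Q := fun v => QuotientGroup.mk ((Additive.toMul v : P) : M)
  have hψ₀ : Function.Bijective ψ₀ := by
    refine (Nat.bijective_iff_injective_and_card _).2 ⟨?_, ?_⟩
    · intro v w h
      have h' := QuotientGroup.eq.1 h
      have := hPQ _ (P.mul_mem (P.inv_mem (Additive.toMul v).2) (Additive.toMul w).2) h'
      exact Additive.toMul.injective (Subtype.ext (inv_mul_eq_one.1 this))
    · rw [hVc, ← hPc, ← hQ.index_eq_card]; rfl
  let ψ : GaloisField p n ≃ M ⧸ Q := e.symm.toEquiv.trans (Equiv.ofBijective ψ₀ hψ₀)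
  let f : M →* Equiv.Perm (GaloisField p n) :=
    (Equiv.permCongrHom ψ.symm).toMonoidHom.comp (MulAction.toPermHom M (M ⧸ Q))
  have hdec : ∀ m : M, ∃ a : P, ∃ q ∈ Q, m = (a : M) * q := by
    intro m
    obtain ⟨⟨a, q⟩, h⟩ := hQ.2 m
    exact ⟨a, q, q.2, h.symm⟩
  have hf : ∀ (a : P) (q : M), q ∈ Q → ∀ x, f ((a : M) * q) x = e (Additive.ofMul a) + e (conj q (e.symm x)) := by
    intro a q hq x
    apply ψ.injective
    show ψ (ψ.symm (((a : M) * q) • ψ x)) = _
    rw [Equiv.apply_symm_apply]
    show ((a : M) * q) • (QuotientGroup.mk ((Additive.toMul (e.symm x) : P) : M) : M ⧸ Q) =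
      QuotientGroup.mk ((Additive.toMul (e.symm (e (Additive.ofMul a) + e (conj q (e.symm x)))) : P) : M)
    rw [← map_add, AddEquiv.symm_apply_apply, MulAction.Quotient.smul_mk, toMul_add,
      Subgroup.coe_mul, hconj, QuotientGroup.eq, smul_eq_mul]
    show ((a : M) * q * (Additive.toMul (e.symm x) : P))⁻¹ *
      ((a : M) * (q * (Additive.toMul (e.symm x) : P) * q⁻¹)) ∈ Q
    rw [show ((a : M) * q * (Additive.toMul (e.symm x) : P))⁻¹ *
      ((a : M) * (q * (Additive.toMul (e.symm x) : P) * q⁻¹)) = q⁻¹ by group]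
    exact Q.inv_mem hq
  have hrange : f.range ≤ Cfsg.semiaffineGroup (GaloisField p n) := by
    rintro _ ⟨m, rfl⟩
    obtain ⟨a, q, hq, rfl⟩ := hdec m
    obtain ⟨b, σ, h⟩ := hsl (conj q) ⟨q, rfl⟩
    have hb : b ≠ 0 := by
      intro hb
      have h1 := h (e.symm 1)
      rw [hb, zero_mul, EmbeddingLike.map_eq_zero_iff, EmbeddingLike.map_eq_zero_iff,
        EmbeddingLike.map_eq_zero_iff] at h1
      exact one_ne_zero h1
    exact ⟨Units.mk0 b hb, e (Additive.ofMul a), σ, fun x => by
      rw [hf a q hq x, h, AddEquiv.apply_symm_apply, add_comm]; rfl⟩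
  have hfker : ∀ m : M, f m = 1 → m ∈ Q ∧ conj m = 1 := by
    intro m hm
    obtain ⟨a, q, hq, rfl⟩ := hdec m
    have h0 := hf a q hq 0
    rw [hm] at h0
    simp only [Equiv.Perm.coe_one, id_eq, map_zero, add_zero] at h0
    have ha : a = 1 := by
      have := (EmbeddingLike.map_eq_zero_iff (f := e)).1 h0.symm
      exact this
    subst ha
    rw [Subgroup.coe_one, one_mul] at hm ⊢
    refine ⟨hq, LinearEquiv.ext fun v => e.injective ?_⟩
    have := hf 1 q hq (e v)
    rw [Subgroup.coe_one, one_mul, hm, AddEquiv.symm_apply_apply] at this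
    show e (conj q v) = e v
    have h1 : e (Additive.ofMul (1 : P)) = 0 := map_zero e
    rw [h1, zero_add] at this
    exact this.symm
  have hkerK : f.ker = K := by
    refine le_antisymm ?_ ?_
    · refine Cfsg.Lib.Components.le_pPrimeCore (N := f.ker) ?_
      refine Nat.Coprime.coprime_dvd_left (Subgroup.card_dvd_of_le (K := Q) fun m hm => (hfker m hm).1) ?_
      rw [hQc]
      exact ((hP.coprime_iff_not_dvd).2 hidx).symm
    · intro k hk
      refine Equiv.ext fun x => ?_
      have := hf 1 k (hKQ hk) x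
      rw [Subgroup.coe_one, one_mul, hKP k hk] at this
      rw [this]
      show e (Additive.ofMul (1 : P)) + e (e.symm x) = x
      rw [show e (Additive.ofMul (1 : P)) = 0 from map_zero e, zero_add, AddEquiv.apply_symm_apply]
  -- the order of the quotient
  have hcard : Nat.card (M ⧸ K) = p ^ n * Nat.card L := by
    let g : M →* L := conj.rangeRestrict
    have hg : g.ker = P ⊔ K := by
      refine le_antisymm ?_ (sup_le ?_ ?_)
      · intro m hm
        obtain ⟨a, q, hq, rfl⟩ := hdec m
        have hm' : conj ((a : M) * q) = 1 := congrArg Subtype.val hm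
        have ha : conj (a : M) = 1 := LinearEquiv.ext fun x => Additive.toMul.injective (Subtype.ext (by
          rw [hconj]
          have := congrArg Subtype.val (hcomm.is_comm.comm a (Additive.toMul x))
          exact mul_inv_eq_iff_eq_mul.2 this))
        rw [map_mul, ha, one_mul] at hm'
        refine Subgroup.mul_mem_sup a.2 (hkerK ▸ ?_)
        refine Equiv.ext fun x => ?_
        have := hf 1 q hq x
        rw [Subgroup.coe_one, one_mul, hm'] at this
        rw [this]
        show e (Additive.ofMul (1 : P)) + e (e.symm x) = x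
        rw [show e (Additive.ofMul (1 : P)) = 0 from map_zero e, zero_add, AddEquiv.apply_symm_apply]
      · intro a ha
        exact Subtype.ext (LinearEquiv.ext fun x => Additive.toMul.injective (Subtype.ext (by
          show ((Additive.toMul (conj a x) : P) : M) = _
          rw [hconj]
          have := congrArg Subtype.val (hcomm.is_comm.comm ⟨a, ha⟩ (Additive.toMul x))
          exact mul_inv_eq_iff_eq_mul.2 this)))
      · exact fun k hk => Subtype.ext (hKP k hk)
    have h1 := Subgroup.index_ker g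
    rw [MonoidHom.range_eq_top.2 conj.rangeRestrict_surjective, Subgroup.card_top, hg] at h1
    have hsup : Nat.card (P ⊔ K : Subgroup M) = p ^ n * Nat.card K := by
      rw [← hPc]
      have hdj : P ⊓ K = ⊥ := eq_bot_iff.2 fun x hx => Subgroup.mem_bot.2 (hPQ x hx.1 (hKQ hx.2))
      have := (QuotientGroup.quotientInfEquivProdNormalQuotient P K)
      have e1 := Nat.card_congr this.toEquiv
      have e2 := (K.subgroupOf (P ⊔ K)).card_mul_index
      rw [Nat.card_congr (Subgroup.subgroupOfEquivOfLe (le_sup_right : K ≤ P ⊔ K)).toEquiv] at e2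
      have e3 : Nat.card (P ⧸ K.subgroupOf P) = Nat.card P := by
        have hb : K.subgroupOf P = ⊥ := by rw [Subgroup.subgroupOf_eq_bot]; exact disjoint_iff.2 (inf_comm P K ▸ hdj)
        have e4 := (K.subgroupOf P).card_mul_index
        rw [hb, Subgroup.card_bot, one_mul] at e4
        rw [hb]; exact e4
      rw [← e3, e1, mul_comm, ← Subgroup.index_eq_card]
      exact e2.symm
    have e5 := Subgroup.card_mul_index (P ⊔ K)
    rw [h1, hsup] at e5
    have e6 := Subgroup.card_mul_index K
    rw [← Subgroup.index_eq_card]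
    refine Nat.eq_of_mul_eq_mul_left (Nat.card_pos (α := K)) ?_
    rw [e6, ← e5]; ring
  -- embeddings
  let f' : M →* Cfsg.semiaffineGroup (GaloisField p n) := f.codRestrict _ (fun m => hrange ⟨m, rfl⟩)
  have hf'k : f'.ker = K := by rw [MonoidHom.ker_codRestrict, hkerK]
  let F' : M ⧸ K →* Cfsg.semiaffineGroup (GaloisField p n) := QuotientGroup.lift K f' hf'k.ge
  have hF' : Function.Injective F' := (MonoidHom.ker_eq_bot_iff _).1 (by
    rw [QuotientGroup.ker_lift, hf'k, QuotientGroup.map_mk'_self])
  rcases hcases with ⟨rfl, h2⟩ | ⟨rfl, rfl, hL5⟩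
  · refine Or.inl ⟨rfl, ⟨F', hF'⟩, ?_⟩
    rintro rfl
    rcases h2 rfl with h21 | ⟨h7, hlin⟩
    · refine Or.inl ⟨MulEquiv.ofBijective F' ((Nat.bijective_iff_injective_and_card _).2 ⟨hF', ?_⟩)⟩
      refine le_antisymm (Nat.card_le_card_of_injective F' hF') ?_
      refine (card_semiaffine_le (by norm_num)).trans ?_
      rw [hcard, h21]; norm_num
    · refine Or.inr ?_
      have hrange' : f.range ≤ Cfsg.affineGroup (GaloisField 2 3) := by
        rintro _ ⟨m, rfl⟩
        obtain ⟨a, q, hq, rfl⟩ := hdec m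
        obtain ⟨b, h⟩ := hlin (conj q) ⟨q, rfl⟩
        have hb : b ≠ 0 := by
          intro hb
          have h1 := h (e.symm 1)
          rw [hb, zero_mul, EmbeddingLike.map_eq_zero_iff, EmbeddingLike.map_eq_zero_iff,
            EmbeddingLike.map_eq_zero_iff] at h1
          exact one_ne_zero h1
        exact ⟨Units.mk0 b hb, e (Additive.ofMul a), fun x => by
          rw [hf a q hq x, h, AddEquiv.apply_symm_apply, add_comm]; rfl⟩
      let g' : M →* Cfsg.affineGroup (GaloisField 2 3) := f.codRestrict _ (fun m => hrange' ⟨m, rfl⟩)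
      have hg'k : g'.ker = K := by rw [MonoidHom.ker_codRestrict, hkerK]
      let G' : M ⧸ K →* Cfsg.affineGroup (GaloisField 2 3) := QuotientGroup.lift K g' hg'k.ge
      have hG' : Function.Injective G' := (MonoidHom.ker_eq_bot_iff _).1 (by
        rw [QuotientGroup.ker_lift, hg'k, QuotientGroup.map_mk'_self])
      refine ⟨MulEquiv.ofBijective G' ((Nat.bijective_iff_injective_and_card _).2 ⟨hG', ?_⟩)⟩
      refine le_antisymm (Nat.card_le_card_of_injective G' hG') ?_
      refine (card_affine_le (by norm_num)).trans ?_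
      rw [hcard, h7]; norm_num
  · refine Or.inr ⟨rfl, rfl, ⟨MulEquiv.ofBijective F' ((Nat.bijective_iff_injective_and_card _).2 ⟨hF', ?_⟩)⟩⟩
    refine le_antisymm (Nat.card_le_card_of_injective F' hF') ?_
    refine (card_semiaffine_le (by norm_num)).trans ?_
    rw [hcard, hL5]; norm_num

end Cfsg.Lib.EquiTransitive
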