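import Cfsg.Agent.OddChar.CoprimeLift
import Cfsg.Agent.Blocks.Feit3
import Cfsg.Agent.Chars.Values

/-!
A group of odd order transitive on the nonzero vectors of an elementary abelian `2`-group of rank `n` has a
faithful complex representation of degree at most `n`, and at most `n / 2` for even `n`.
-/

set_option autoImplicit false
set_option linter.style.haveILetI false
set_option linter.unusedSectionVars false

namespace Cfsg.Lib.LinearPerm.OddTrans

open Module Cfsg.Lib.Blocks Cfsg.Lib.Modular Cfsg.Lib.OddChar.CoprimeLift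

universe u v

/-- Every nontrivial normal subgroup sums to zero. -/
def Killed {k D V : Type*} [Field k] [Group D] [Fintype D] [AddCommGroup V] [Module k V]
    (τ : Representation k D V) : Prop :=
  ∀ (N : Subgroup D) [Fintype N], N.Normal → N ≠ ⊥ → ∀ w : V, ∑ h : N, τ (h : D) w = 0

theorem Killed.injective {k : Type*} {D : Type u} {V : Type*} [Field k] [Group D] [Fintype D] [AddCommGroup V]
    [Module k V] [Nontrivial V] [CharP k 2] (hodd : Odd (Nat.card D)) {τ : Representation k D V}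
    (h : Killed τ) : Function.Injective τ := by
  classical
  rw [← MonoidHom.ker_eq_bot_iff]
  by_contra hne
  obtain ⟨w, hw⟩ := exists_ne (0 : V)
  haveI : Fintype τ.ker := Fintype.ofFinite _
  have h1 := h τ.ker inferInstance hne w
  have hfix : ∀ g : τ.ker, τ (g : D) w = w := fun g => by
    rw [show τ (g : D) = 1 from MonoidHom.mem_ker.1 g.2]; rfl
  simp only [hfix, Finset.sum_const, Finset.card_univ, ← Nat.cast_smul_eq_nsmul k, smul_eq_zero] at h1
  refine h1.elim (fun h2 => ?_) hw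
  rw [← Nat.card_eq_fintype_card, CharP.cast_eq_zero_iff k 2] at h2
  exact (Nat.not_even_iff_odd.2 (hodd.of_dvd_nat (Subgroup.card_subgroup_dvd_card _))) (even_iff_two_dvd.2 h2)

theorem Killed.sub {k D V : Type*} [Field k] [Group D] [Fintype D] [AddCommGroup V] [Module k V]
    {τ : Representation k D V} (h : Killed τ) (U : Submodule k V) (hU : ∀ g, ∀ w ∈ U, τ g w ∈ U) :
    Killed (subRep τ U hU) := fun N _ hN hne w => Subtype.ext (by
      rw [Submodule.coe_sum]; exact h N hN hne (w : V))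

theorem Killed.quot {k D V : Type*} [Field k] [Group D] [Fintype D] [AddCommGroup V] [Module k V]
    {τ : Representation k D V} (h : Killed τ) (U : Submodule k V) (hU : ∀ g, ∀ w ∈ U, τ g w ∈ U) :
    Killed (quotRep τ U hU) := fun N _ hN hne w => by
  obtain ⟨y, rfl⟩ := Submodule.Quotient.mk_surjective U w
  simp only [quotRep_mk]
  show ∑ g : N, U.mkQ (τ (g : D) y) = 0
  rw [← map_sum, h N hN hne y, map_zero]

variable {D : Type u} {E : Type v} [Group D] [Finite D] [AddCommGroup E] [Finite E] [Nontrivial E]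
  [DistribMulAction D E] [FaithfulSMul D E]

theorem exists_small_rep (h2 : ∀ e : E, 2 • e = 0) (hodd : Odd (Nat.card D))
    (htrans : ∀ a b : E, a ≠ 0 → b ≠ 0 → ∃ d : D, d • a = b) {n : ℕ} (hn : Nat.card E = 2 ^ n) :
    ∃ (d : ℕ) (ρ : Representation ℂ D (Fin d → ℂ)), Function.Injective ρ ∧ 0 < d ∧ d ≤ n ∧
      (Even n → 2 * d ≤ n) := by
  classical
  haveI := Fact.mk Nat.prime_two
  haveI : Fintype D := Fintype.ofFinite D
  letI : Module (ZMod 2) E := AddCommGroup.zmodModule h2
  have hfr : finrank (ZMod 2) E = n := by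
    have h := Module.natCard_eq_pow_finrank (K := ZMod 2) (V := E)
    rw [hn, Nat.card_zmod] at h
    exact (Nat.pow_right_injective (le_refl 2) h).symm
  have hn0 : 0 < n := hfr ▸ Module.finrank_pos
  let b : Basis (ULift.{u} (Fin n)) (ZMod 2) E :=
    (Module.finBasisOfFinrankEq (ZMod 2) E hfr).reindex Equiv.ulift.symm
  obtain ⟨M, hM⟩ := exists_isPModular Nat.prime_two
  haveI : CharP (Res M) 2 := charP_res hM
  let f : ZMod 2 →+* Res M := ZMod.castHom (dvd_refl 2) (Res M)
  let ρ2 : D →* Module.End (ZMod 2) E :=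
    { toFun := fun g => (DistribMulAction.toAddMonoidHom E g).toZModLinearMap 2
      map_one' := LinearMap.ext fun w => one_smul D w
      map_mul' := fun a b => LinearMap.ext fun w => mul_smul a b w }
  have hρ2 : ∀ g w, ρ2 g w = g • w := fun _ _ => rfl
  let Φ : Module.End (ZMod 2) E →+* Module.End (Res M) (ULift.{u} (Fin n) → Res M) :=
    (Matrix.toLinAlgEquiv'.toRingEquiv.toRingHom).comp
      (f.mapMatrix.comp (LinearMap.toMatrixAlgEquiv b).toRingEquiv.toRingHom)
  let σ : Representation (Res M) D (ULift.{u} (Fin n) → Res M) := Φ.toMonoidHom.comp ρ2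
  have hσk : Killed σ := by
    intro N _ hN hne w
    have h0 : ∑ h : N, ρ2 (h : D) = 0 := by
      refine LinearMap.ext fun u => ?_
      rw [LinearMap.sum_apply, LinearMap.zero_apply]
      by_contra hw
      simp only [hρ2] at hw
      refine hne ((Subgroup.eq_bot_iff_forall N).2 fun g hg => ?_)
      apply eq_of_smul_eq_smul (α := E)
      intro y
      rw [one_smul]
      rcases eq_or_ne y 0 with rfl | hy
      · exact smul_zero _
      obtain ⟨c, rfl⟩ := htrans _ y hw hy
      have hmem : c⁻¹ * g * c ∈ N := by simpa using hN.conj_mem g hg c⁻¹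
      have hfix : (c⁻¹ * g * c) • (∑ h : N, (h : D) • u) = ∑ h : N, (h : D) • u := by
        rw [Finset.smul_sum]
        exact Fintype.sum_equiv (Equiv.mulLeft (⟨_, hmem⟩ : N)) _ _ fun h => (mul_smul (c⁻¹ * g * c) (h : D) u).symm
      rw [mul_smul, mul_smul, inv_smul_eq_iff] at hfix
      exact hfix
    have h1 : ∑ h : N, σ (h : D) = 0 := by
      show ∑ h : N, Φ (ρ2 (h : D)) = 0
      rw [← map_sum, h0, map_zero]
    rw [← LinearMap.sum_apply, h1, LinearMap.zero_apply]
  have hcop : ¬ 2 ∣ Nat.card D := fun h => (Nat.not_even_iff_odd.2 hodd) (even_iff_two_dvd.2 h)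
  have hlift : ∀ {V : Type u} [AddCommGroup V] [Module (Res M) V] [FiniteDimensional (Res M) V]
      (τ : Representation (Res M) D V), Irred τ → Killed τ →
      ∃ (d : ℕ) (ρ : Representation ℂ D (Fin d → ℂ)), Function.Injective ρ ∧ d = finrank (Res M) V ∧ Odd d := by
    intro V _ _ _ τ hτ hk
    haveI := hτ.nontrivial
    obtain ⟨ψ, hdeg, hfaith⟩ := exists_character hM hcop τ hτ (hk.injective hodd)
    have hdvd : Cfsg.Lib.Chars.deg (ψ : D → ℂ) ∣ Nat.card D := Cfsg.Lib.Chars.IsIrrCharacter.deg_dvd ψ.2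
    obtain ⟨d, ρ, hρi, hρ⟩ := ψ.2
    have hd : Cfsg.Lib.Chars.deg (ψ : D → ℂ) = d := by
      rw [← hρ, Cfsg.Lib.Chars.deg_character, Module.finrank_fintype_fun_eq_card, Fintype.card_fin]
    refine ⟨d, ρ, (injective_iff_map_eq_one _).2 fun g hg => hfaith g ?_, hd.symm.trans hdeg,
      hd ▸ hodd.of_dvd_nat hdvd⟩
    rw [← hρ]
    show LinearMap.trace ℂ _ (ρ g) = LinearMap.trace ℂ _ (ρ 1)
    rw [hg, map_one ρ]
  have hdimV : finrank (Res M) (ULift.{u} (Fin n) → Res M) = n := by
    rw [Module.finrank_fintype_fun_eq_card, Fintype.card_ulift, Fintype.card_fin]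
  haveI : Nontrivial (ULift.{u} (Fin n) → Res M) := Module.nontrivial_of_finrank_pos (R := Res M) (hdimV.symm ▸ hn0)
  have hsmall : ∀ {V : Type u} [AddCommGroup V] [Module (Res M) V] [FiniteDimensional (Res M) V] [Nontrivial V]
      (τ : Representation (Res M) D V), Killed τ →
      ∃ (d : ℕ) (ρ : Representation ℂ D (Fin d → ℂ)), Function.Injective ρ ∧ 0 < d ∧ d ≤ finrank (Res M) V := by
    intro V _ _ _ _ τ hk
    obtain ⟨U, hU, hirr⟩ := exists_irred_sub τ
    obtain ⟨d, ρ, hρ, hd, hdo⟩ := hlift _ hirr (hk.sub U hU)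
    exact ⟨d, ρ, hρ, hdo.pos, hd.trans_le (Submodule.finrank_le U)⟩
  by_cases he : Even n
  swap
  · obtain ⟨d, ρ, hρ, hd0, hd⟩ := hsmall σ hσk
    exact ⟨d, ρ, hρ, hd0, hdimV ▸ hd, fun h => absurd h he⟩
  obtain ⟨U, hU, hU0, hU1⟩ : ∃ U : Submodule (Res M) (ULift.{u} (Fin n) → Res M),
      (∀ g, ∀ w ∈ U, σ g w ∈ U) ∧ U ≠ ⊥ ∧ U ≠ ⊤ := by
    by_contra hall
    push Not at hall
    obtain ⟨d, ρ, -, hd, hdo⟩ := hlift σ ⟨inferInstance, fun U hU => (eq_or_ne U ⊥).imp_right (hall U hU)⟩ hσk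
    rw [hd, hdimV] at hdo
    exact (Nat.not_even_iff_odd.2 hdo) he
  have hsum := Submodule.finrank_quotient_add_finrank U
  rw [hdimV] at hsum
  haveI : Nontrivial U := Submodule.nontrivial_iff_ne_bot.2 hU0
  haveI : Nontrivial ((ULift.{u} (Fin n) → Res M) ⧸ U) := Submodule.Quotient.nontrivial_iff.2 hU1
  by_cases hle : 2 * finrank (Res M) U ≤ n
  · obtain ⟨d, ρ, hρ, hd0, hd⟩ := hsmall _ (hσk.sub U hU)
    exact ⟨d, ρ, hρ, hd0, by omega, fun _ => by omega⟩
  · obtain ⟨d, ρ, hρ, hd0, hd⟩ := hsmall _ (hσk.quot U hU)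
    exact ⟨d, ρ, hρ, hd0, by omega, fun _ => by omega⟩

end Cfsg.Lib.LinearPerm.OddTrans
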