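import Cfsg.Agent.LinearPerm.OddTransitiveBasics
import Cfsg.Agent.LinearPerm.OddTransitiveRep
import Cfsg.Agent.OddChar.OddSmallDegree
import Cfsg.Agent.Components.Misc.Zsigmondy

/-!
A group of odd order acting faithfully and transitively on the nonzero vectors of an elementary abelian
`2`-group has a cyclic normal semiregular subgroup containing its derived subgroup (no use of the odd
order theorem).
-/

set_option autoImplicit false
set_option linter.style.haveILetI false
set_option linter.unusedSectionVars false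

namespace Cfsg.Lib.LinearPerm.OddTrans

open Subgroup MulAction

universe u v

variable {D : Type u} {E : Type v} [Group D] [Finite D] [AddCommGroup E] [Finite E] [Nontrivial E]
  [DistribMulAction D E] [FaithfulSMul D E]

theorem eq_zero_or_natCard_two_pow (h2 : ∀ e : E, 2 • e = 0) : ∃ n, Nat.card E = 2 ^ n := by
  haveI := Fact.mk Nat.prime_two
  letI : Module (ZMod 2) E := AddCommGroup.zmodModule h2
  exact ⟨Module.finrank (ZMod 2) E, by rw [Module.natCard_eq_pow_finrank (K := ZMod 2), Nat.card_zmod]⟩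

theorem card_nonzero_dvd (htrans : ∀ a b : E, a ≠ 0 → b ≠ 0 → ∃ d : D, d • a = b) :
    Nat.card E - 1 ∣ Nat.card D := by
  obtain ⟨v, hv⟩ := exists_ne (0 : E)
  have horb : orbit D v = {(0 : E)}ᶜ := by
    ext w
    constructor
    · rintro ⟨d, rfl⟩ h
      exact hv (by simpa [smul_eq_iff_eq_inv_smul] using (Set.mem_singleton_iff.1 h))
    · exact fun hw => htrans v w hv hw
  have h := Subgroup.index_dvd_card (stabilizer D v)
  rwa [index_stabilizer, horb, Set.ncard_compl, Set.ncard_singleton] at h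

set_option maxHeartbeats 1000000 in
/-- **Main theorem**. -/
theorem main (h2 : ∀ e : E, 2 • e = 0) (hodd : Odd (Nat.card D))
    (htrans : ∀ a b : E, a ≠ 0 → b ≠ 0 → ∃ d : D, d • a = b) :
    IsCyclic (Cfsg.fittingSubgroup D) ∧ Semireg (Cfsg.fittingSubgroup D) E ∧
      commutator D ≤ Cfsg.fittingSubgroup D := by
  classical
  haveI := Fact.mk Nat.prime_two
  haveI : Fintype D := Fintype.ofFinite D
  obtain ⟨n, hn⟩ := eq_zero_or_natCard_two_pow h2
  have hE1 : 1 < Nat.card E := Finite.one_lt_card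
  obtain rfl | hn2 : n = 1 ∨ 2 ≤ n := by
    rcases n with _ | _ | n
    · simp [hn] at hE1
    · exact Or.inl rfl
    · exact Or.inr (by omega)
  · -- two vectors: the group is trivial
    have htriv : ∀ d : D, d = 1 := by
      intro d
      apply eq_of_smul_eq_smul (α := E)
      intro u
      rw [one_smul]
      by_contra hne
      have hu : u ≠ 0 := fun h => hne (by rw [h, smul_zero])
      have hdu : d • u ≠ 0 := fun h => hu (by simpa [smul_eq_iff_eq_inv_smul] using h)
      have h3 : Nat.card ({d • u, u, 0} : Set E) ≤ Nat.card E := by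
        simp only [Nat.card_coe_set_eq]; exact Set.ncard_le_card _
      rw [hn, Nat.card_coe_set_eq, Set.ncard_insert_of_notMem (by simp [hne, hdu]), Set.ncard_pair hu] at h3
      omega
    haveI : Subsingleton D := ⟨fun a b => (htriv a).trans (htriv b).symm⟩
    exact ⟨inferInstance, fun a _ _ _ _ => htriv a, fun a _ => (htriv a).symm ▸ one_mem _⟩
  -- the prime
  obtain ⟨r, hr, hrdvd, hrn, hmin⟩ : ∃ r : ℕ, r.Prime ∧ r ∣ 2 ^ n - 1 ∧ n + 1 ≤ r ∧
      ((∀ k : ℕ, 0 < k → k < n → ¬ r ∣ 2 ^ k - 1) ∧ (¬ Even n → 2 * n + 1 ≤ r) ∨ n = 6 ∧ r = 7) := by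
    by_cases h6 : n = 6
    · subst h6
      exact ⟨7, by norm_num, by norm_num, by norm_num, Or.inr ⟨rfl, rfl⟩⟩
    obtain ⟨r, hr, hrd, hmin⟩ := Cfsg.Lib.Zsigmondy.zsigmondy 2 n (by norm_num) (by omega) (fun h => h6 h.2)
      (fun ⟨_, m, hm⟩ => by
        rcases m with _ | _ | m
        · simp at hm
        · simp at hm
        · have : 4 ≤ 2 ^ (m + 1 + 1) := Nat.pow_le_pow_right (show 0 < 2 by norm_num) (show 2 ≤ m + 1 + 1 by omega)
          omega)
    haveI := Fact.mk hr
    have hr2 : r ≠ 2 := by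
      rintro rfl
      have h2n : 2 ∣ 2 ^ n := dvd_pow_self 2 (by omega)
      have := Nat.dvd_sub h2n hrd
      rw [Nat.sub_sub_self Nat.one_le_two_pow] at this
      exact absurd this (by norm_num)
    have hfer : r ∣ 2 ^ (r - 1) - 1 := by
      have h2r : (2 : ZMod r) ≠ 0 := by
        intro h
        rw [show (2 : ZMod r) = ((2 : ℕ) : ZMod r) by norm_cast, ZMod.natCast_eq_zero_iff] at h
        exact hr2 ((Nat.prime_dvd_prime_iff_eq hr Nat.prime_two).1 h)
      have h1 := ZMod.pow_card_sub_one_eq_one h2r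
      rw [← ZMod.natCast_eq_zero_iff, Nat.cast_sub Nat.one_le_two_pow, Nat.cast_pow, Nat.cast_two, h1,
        Nat.cast_one, sub_self]
    have hg : n ∣ r - 1 := by
      have hd : r ∣ 2 ^ Nat.gcd n (r - 1) - 1 := by
        rw [← Nat.pow_sub_one_gcd_pow_sub_one]
        exact Nat.dvd_gcd hrd hfer
      have hpos : 0 < Nat.gcd n (r - 1) := Nat.gcd_pos_of_pos_left _ (by omega)
      have hle : Nat.gcd n (r - 1) ≤ n := Nat.le_of_dvd (by omega) (Nat.gcd_dvd_left _ _)
      have heq : Nat.gcd n (r - 1) = n := (eq_or_lt_of_le hle).resolve_right fun hlt => hmin _ hpos hlt hd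
      exact heq ▸ Nat.gcd_dvd_right _ _
    have hr3 : 2 < r := lt_of_le_of_ne hr.two_le hr2.symm
    obtain ⟨m, hm⟩ := hg
    refine ⟨r, hr, hrd, ?_, Or.inl ⟨hmin, fun hne => ?_⟩⟩
    · rcases m with _ | m
      · omega
      · have : n ≤ n * (m + 1) := Nat.le_mul_of_pos_right _ (by omega)
        omega
    · obtain ⟨k, hk⟩ := hr.odd_of_ne_two hr2
      rcases m with _ | _ | m
      · omega
      · exact absurd ⟨k, by omega⟩ hne
      · have : n * 2 ≤ n * (m + 1 + 1) := Nat.mul_le_mul_left _ (by omega)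
        omega
  haveI := Fact.mk hr
  obtain ⟨d, ρ, hρ, hd0, hdn, hdhalf⟩ := exists_small_rep h2 hodd htrans hn
  have hdr : 2 * d + 1 ≤ r := by
    rcases hmin with ⟨-, h⟩ | ⟨rfl, rfl⟩
    · by_cases he : Even n
      · have := hdhalf he; omega
      · have := h he; omega
    · have := hdhalf ⟨3, rfl⟩; omega
  -- a normal subgroup of order `r`
  obtain ⟨R⟩ : Nonempty (Sylow r D) := inferInstance
  haveI hRn : (R : Subgroup D).Normal := Cfsg.Lib.OddChar.OddSmallDegree.sylow_normal hodd hd0 ρ hρ hdr R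
  have hrD : r ∣ Nat.card D := hrdvd.trans (hn ▸ card_nonzero_dvd htrans)
  haveI : Nontrivial (R : Subgroup D) := by
    rw [← Finite.one_lt_card_iff_nontrivial]
    have := R.dvd_card_of_dvd_card hrD
    exact hr.one_lt.trans_le (Nat.le_of_dvd Nat.card_pos this)
  set Z : Subgroup D := (center (R : Subgroup D)).map (R : Subgroup D).subtype
  have hZcomm : ∀ a ∈ Z, ∀ b ∈ Z, a * b = b * a := by
    rintro _ ⟨a, ha, rfl⟩ _ ⟨b, hb, rfl⟩
    exact congrArg Subtype.val (mem_center_iff.1 hb a)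
  haveI hZn : Z.Normal := ⟨by
    rintro _ ⟨a, ha, rfl⟩ g
    refine ⟨⟨g * a * g⁻¹, hRn.conj_mem _ a.2 g⟩, mem_center_iff.2 fun b => Subtype.ext ?_, rfl⟩
    have hb : g⁻¹ * b * g ∈ (R : Subgroup D) := by simpa using hRn.conj_mem _ b.2 g⁻¹
    have h : (g⁻¹ * b * g) * (a : D) = a * (g⁻¹ * b * g) := congrArg Subtype.val (mem_center_iff.1 ha ⟨_, hb⟩)
    show (b : D) * (g * a * g⁻¹) = g * a * g⁻¹ * b
    calc (b : D) * (g * a * g⁻¹) = g * ((g⁻¹ * b * g) * a) * g⁻¹ := by group
      _ = g * (a * (g⁻¹ * b * g)) * g⁻¹ := by rw [h]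
      _ = _ := by group⟩
  have hZs : Semireg Z E := semireg_of_normal_abelian htrans Z hZcomm
  haveI hZcyc : IsCyclic Z := isCyclic_of_semireg h2 hodd Z hZcomm hZs
  haveI : Nontrivial (center (R : Subgroup D)) := R.2.center_nontrivial
  have hrZ : r ∣ Nat.card Z := by
    rw [Nat.card_congr (Subgroup.equivMapOfInjective _ _ (R : Subgroup D).subtype_injective).symm.toEquiv]
    exact ((R.2.to_subgroup (center (R : Subgroup D))).card_eq_or_dvd).resolve_left
      (Finite.one_lt_card (α := center (R : Subgroup D))).ne'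
  obtain ⟨xz, hxz⟩ := exists_prime_orderOf_dvd_card' (G := Z) r hrZ
  set x : D := (xz : D)
  have hx : orderOf x = r := by rw [Subgroup.orderOf_coe, hxz]
  have hx1 : x ≠ 1 := fun h => by rw [h, orderOf_one] at hx; exact hr.one_lt.ne hx
  have hxr : x ^ r = 1 := hx ▸ pow_orderOf_eq_one x
  haveI hXn : (zpowers x).Normal := by
    have huniq : ∀ y : Z, y ^ r = 1 → y ∈ zpowers xz := by
      intro y hy
      haveI : Fintype Z := Fintype.ofFinite _
      have hxzr : xz ^ r = 1 := by rw [← hxz]; exact pow_orderOf_eq_one xz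
      have hsub : (zpowers xz : Set Z).toFinset ⊆ Finset.univ.filter (fun a : Z => a ^ r = 1) := by
        intro z hz
        rw [Set.mem_toFinset] at hz
        obtain ⟨i, rfl⟩ := hz
        simp only [Finset.mem_filter, Finset.mem_univ, true_and]
        rw [← zpow_natCast (xz ^ i), ← zpow_mul, mul_comm, zpow_mul, zpow_natCast, hxzr, one_zpow]
      have heq := Finset.eq_of_subset_of_card_le hsub (by
        rw [Set.toFinset_card, ← Nat.card_eq_fintype_card]
        exact (IsCyclic.card_pow_eq_one_le hr.pos).trans_eq (by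
          rw [show Nat.card (zpowers xz : Set Z) = Nat.card (zpowers xz) from rfl, Nat.card_zpowers, hxz]))
      have hy' : y ∈ (zpowers xz : Set Z).toFinset := heq ▸ Finset.mem_filter.2 ⟨Finset.mem_univ _, hy⟩
      exact Set.mem_toFinset.1 hy'
    refine ⟨?_⟩
    rintro _ ⟨i, rfl⟩ g
    have hmem : g * x ^ i * g⁻¹ ∈ Z := hZn.conj_mem _ (zpow_mem xz.2 i) g
    obtain ⟨j, hj⟩ := huniq ⟨_, hmem⟩ (Subtype.ext (by
      show (g * x ^ i * g⁻¹) ^ r = 1
      rw [conj_pow, ← zpow_natCast (x ^ i), ← zpow_mul, mul_comm i, zpow_mul, zpow_natCast, hxr, one_zpow,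
        mul_one, mul_inv_cancel]))
    exact ⟨j, congrArg Subtype.val hj⟩
  have hfree : ∀ v : E, x • v = v → v = 0 := fun v hv => by
    by_contra h
    exact hx1 (hZs x xz.2 v h hv)
  set C := centralizer ({x} : Set D) with hC
  suffices hgoal : Semireg C E ∧ ∀ c ∈ C, ∀ c' ∈ C, c * c' = c' * c by
    obtain ⟨h1, -, h3, h4⟩ := structure_of_centralizer h2 hodd hx hgoal.1 hgoal.2
    rw [h4]
    exact ⟨h1, hgoal.1, h3⟩
  have hspan_card : ∀ v : E, v ≠ 0 → ∃ m, 0 < m ∧ m ≤ n ∧ Nat.card (orbSpan x v) = 2 ^ m ∧ r ∣ 2 ^ m - 1 := by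
    intro v hv
    have hd : Nat.card (orbSpan x v) ∣ 2 ^ n := hn ▸ AddSubgroup.card_addSubgroup_dvd_card _
    obtain ⟨m, hm, hme⟩ := (Nat.dvd_prime_pow Nat.prime_two).1 hd
    refine ⟨m, Nat.pos_of_ne_zero fun h0 => ?_, hm, hme, ?_⟩
    · rw [h0, pow_zero] at hme
      haveI := (Nat.card_eq_one_iff_unique.1 hme).1
      exact hv (congrArg Subtype.val (Subsingleton.elim (⟨v, mem_orbSpan_self x v⟩ : orbSpan x v) 0))
    · have h1 := card_modEq_one hx hfree (orbSpan x v) fun u hu => orbSpan_smul x v hu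
      rw [hme] at h1
      exact (Nat.modEq_iff_dvd' Nat.one_le_two_pow).1 h1.symm
  rcases hmin with ⟨hmin, -⟩ | ⟨rfl, rfl⟩
  · -- every orbit spans
    have hspan : ∀ v : E, v ≠ 0 → orbSpan x v = ⊤ := by
      intro v hv
      obtain ⟨m, hm0, hmn, hme, hmd⟩ := hspan_card v hv
      have : m = n := (eq_or_lt_of_le hmn).resolve_right fun hlt => hmin m hm0 hlt hmd
      exact AddSubgroup.eq_top_of_card_eq _ (by rw [hme, this, hn])
    obtain ⟨v₀, hv₀⟩ := exists_ne (0 : E)
    refine ⟨fun c hc v hv hcv => ?_, centralizer_comm (hspan v₀ hv₀)⟩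
    apply eq_of_smul_eq_smul (α := E)
    intro u
    rw [one_smul]
    exact mem_centralizer_fix hc hcv u (hspan v hv ▸ AddSubgroup.mem_top u)
  -- the exceptional case of `2 ^ 6`
  letI : Module (ZMod 2) E := AddCommGroup.zmodModule h2
  have hadd : ∀ e : E, e + e = 0 := fun e => by rw [← two_nsmul]; exact h2 e
  have hneg : ∀ e : E, -e = e := fun e => neg_eq_of_add_eq_zero_left (hadd e)
  set X : ℕ → E → E := fun i u => x ^ i • u with hX
  have hXX : ∀ i j u, X i (X j u) = X (i + j) u := fun i j u => by simp only [hX]; rw [← mul_smul, ← pow_add]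
  have hXadd : ∀ i a b, X i (a + b) = X i a + X i b := fun i a b => smul_add _ a b
  have hX7 : ∀ i u, X (i + 7) u = X i u := fun i u => by simp only [hX]; rw [pow_add, hxr, mul_one]
  let f1 : E → E := fun u => X 3 u + X 1 u + u
  let f2 : E → E := fun u => X 3 u + X 2 u + u
  have hsum : ∀ u, f1 (f2 u) = 0 := by
    intro u
    have h := sum_orbit_eq_zero hxr hfree u
    simp only [Finset.sum_range_succ, Finset.sum_range_zero, zero_add, pow_zero, one_smul] at h
    rw [← h]
    simp only [f1, f2, hXadd, hXX]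
    show _ = u + X 1 u + X 2 u + X 3 u + X 4 u + X 5 u + X 6 u
    have e : X 3 u + X 3 u + X 3 u = X 3 u := by rw [hadd, zero_add]
    calc _ = u + X 1 u + X 2 u + (X 3 u + X 3 u + X 3 u) + X 4 u + X 5 u + X 6 u := by
          simp only [show (3 : ℕ) + 3 = 6 from rfl, show (3 : ℕ) + 2 = 5 from rfl, show (1 : ℕ) + 3 = 4 from rfl,
            show (1 : ℕ) + 2 = 3 from rfl]
          abel
      _ = _ := by rw [e]
  -- the kernel of `f1` is invariant
  have hconj : ∀ g : D, ∃ i : ℕ, (i % 7 = 1 ∨ i % 7 = 2 ∨ i % 7 = 4) ∧ g⁻¹ * x * g = x ^ i := by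
    intro g
    let φ : D →* MulAut (zpowers x) := MulAut.conjNormal
    have h3 : φ g⁻¹ ^ 3 = 1 := by
      have hd1 : orderOf (φ g⁻¹) ∣ 6 := by
        refine (_root_.orderOf_dvd_natCard (φ g⁻¹)).trans ?_
        rw [IsCyclic.card_mulAut, Nat.card_zpowers, hx, Nat.totient_prime hr]
      have hd2 : Odd (orderOf (φ g⁻¹)) :=
        hodd.of_dvd_nat ((orderOf_map_dvd φ g⁻¹).trans (_root_.orderOf_dvd_natCard g⁻¹))
      rw [show (6 : ℕ) = 2 * 3 from rfl] at hd1
      exact orderOf_dvd_iff_pow_eq_one.1 ((Nat.Coprime.dvd_mul_left (Nat.coprime_two_right.2 hd2)).1 hd1)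
    obtain ⟨k, hk⟩ := mem_powers_iff_mem_zpowers.2 (hXn.conj_mem x (mem_zpowers x) g⁻¹)
    rw [inv_inv] at hk
    refine ⟨k, ?_, hk.symm⟩
    have hpow : ∀ j : ℕ, (φ g⁻¹ ^ j) ⟨x, mem_zpowers x⟩ = (⟨x, mem_zpowers x⟩ : zpowers x) ^ (k ^ j) := by
      intro j
      induction j with
      | zero => simp
      | succ j ih =>
        rw [pow_succ, MulAut.mul_apply, show φ g⁻¹ ⟨x, mem_zpowers x⟩ = (⟨x, mem_zpowers x⟩ : zpowers x) ^ k from
          Subtype.ext (by simpa [φ, MulAut.conjNormal_apply] using hk.symm), map_pow, ih, ← pow_mul, ← pow_succ]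
    have h := hpow 3
    rw [h3, MulAut.one_apply] at h
    have hx3 : x ^ 1 = x ^ k ^ 3 := by rw [pow_one]; exact congrArg Subtype.val h
    rw [pow_eq_pow_iff_modEq, hx] at hx3
    have hc : (k % 7) ^ 3 % 7 = 1 := by
      rw [← Nat.pow_mod]; exact hx3.symm
    have hlt := Nat.mod_lt k (show 0 < 7 by norm_num)
    generalize k % 7 = j at hc hlt ⊢
    interval_cases j <;> omega
  have hsq : ∀ u, f1 u = 0 → X 6 u + X 2 u + u = 0 := fun u hu => by
    have h : f1 (f1 u) = 0 := by
      rw [hu]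
      simp only [f1, hX, smul_zero, add_zero]
    simp only [f1, hXadd, hXX] at h
    have e4 : X 4 u + X 4 u = 0 := hadd _
    have e3 : X 3 u + X 3 u = 0 := hadd _
    have e1 : X 1 u + X 1 u = 0 := hadd _
    calc X 6 u + X 2 u + u = X 6 u + X 2 u + u + (X 4 u + X 4 u) + (X 3 u + X 3 u) + (X 1 u + X 1 u) := by
          rw [e4, e3, e1, add_zero, add_zero, add_zero]
      _ = _ := by
        rw [← h]
        simp only [show (3 : ℕ) + 3 = 6 from rfl, show (3 : ℕ) + 1 = 4 from rfl,
          show (1 : ℕ) + 1 = 2 from rfl]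
        abel
  have hquad : ∀ u, f1 u = 0 → X 5 u + X 4 u + u = 0 := fun u hu => by
    have h0 := hsq u hu
    have h : X 6 (X 6 u + X 2 u + u) + X 2 (X 6 u + X 2 u + u) + (X 6 u + X 2 u + u) = 0 := by
      rw [h0]; simp [hX]
    simp only [hXadd, hXX] at h
    have e8 : X 8 u + X 8 u = 0 := hadd _
    have e6 : X 6 u + X 6 u = 0 := hadd _
    have e2 : X 2 u + X 2 u = 0 := hadd _
    calc X 5 u + X 4 u + u = X 12 u + X 4 u + u + (X 8 u + X 8 u) + (X 6 u + X 6 u) + (X 2 u + X 2 u) := by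
          rw [e8, e6, e2, add_zero, add_zero, add_zero, show X 12 u = X 5 u from hX7 5 u]
      _ = _ := by
        rw [← h]
        simp only [show (6 : ℕ) + 6 = 12 from rfl, show (6 : ℕ) + 2 = 8 from rfl,
          show (2 : ℕ) + 2 = 4 from rfl]
        abel
  have hinv : ∀ g : D, ∀ u, f1 u = 0 → f1 (g • u) = 0 := by
    intro g u hu
    obtain ⟨i, hi, hgi⟩ := hconj g
    have hmove : ∀ j : ℕ, X j (g • u) = g • X ((i % 7) * j) u := fun j => by
      simp only [hX]
      rw [← mul_smul, ← mul_smul]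
      congr 1
      calc x ^ j * g = g * ((g⁻¹ * x * g) ^ j) := by
            rw [show g⁻¹ * x * g = g⁻¹ * x * g⁻¹⁻¹ by rw [inv_inv], conj_pow, inv_inv]; group
        _ = g * x ^ ((i % 7) * j) := by
          rw [hgi, pow_eq_pow_mod i hxr, ← pow_mul]
    show X 3 (g • u) + X 1 (g • u) + g • u = 0
    rw [hmove, hmove, mul_one, ← smul_add, ← smul_add]
    rcases hi with h | h | h <;> rw [h]
    · rw [show X (1 * 3) u + X 1 u + u = f1 u from rfl, hu, smul_zero]
    · rw [show X (2 * 3) u + X 2 u + u = X 6 u + X 2 u + u from rfl, hsq u hu, smul_zero]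
    · rw [show X (4 * 3) u = X 5 u from hX7 5 u, hquad u hu, smul_zero]
  -- every vector spans only `8` vectors
  have hred : ∀ u, X 3 u ∈ Submodule.span (ZMod 2) ({u, X 1 u, X 2 u} : Set E) := by
    have hmem : ∀ u a, a ∈ ({u, X 1 u, X 2 u} : Set E) → a ∈ Submodule.span (ZMod 2) ({u, X 1 u, X 2 u} : Set E) :=
      fun u a ha => Submodule.subset_span ha
    by_cases hk : ∃ w, w ≠ 0 ∧ f1 w = 0
    · obtain ⟨w, hw, hw0⟩ := hk
      intro u
      have hu : f1 u = 0 := by
        rcases eq_or_ne u 0 with rfl | hu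
        · simp [f1, hX]
        · obtain ⟨g, rfl⟩ := htrans w u hw hu
          exact hinv g w hw0
      have h : X 3 u = X 1 u + u := by
        simp only [f1, add_assoc] at hu
        rw [add_eq_zero_iff_eq_neg.1 hu, hneg]
      rw [h]
      exact add_mem (hmem u _ (by simp)) (hmem u _ (by simp))
    · push Not at hk
      intro u
      have hu : f2 u = 0 := by
        by_contra hne
        exact hk _ hne (hsum u)
      have h : X 3 u = X 2 u + u := by
        simp only [f2, add_assoc] at hu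
        rw [add_eq_zero_iff_eq_neg.1 hu, hneg]
      rw [h]
      exact add_mem (hmem u _ (by simp)) (hmem u _ (by simp))
  have hle8 : ∀ v : E, Nat.card (orbSpan x v) ≤ 8 := by
    intro v
    set S := Submodule.span (ZMod 2) ({v, X 1 v, X 2 v} : Set E)
    have hS : ∀ w ∈ S, X 1 w ∈ S := by
      intro w hw
      induction hw using Submodule.span_induction with
      | mem a ha =>
        rcases ha with rfl | rfl | rfl
        · exact Submodule.subset_span (by simp)
        · rw [hXX]; exact Submodule.subset_span (by simp)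
        · rw [hXX]; exact hred v
      | zero => simp [hX]
      | add a b _ _ ha hb => rw [hXadd]; exact add_mem ha hb
      | smul c a _ ha =>
        rw [show X 1 (c • a) = c • X 1 a from ZMod.map_smul (DistribSMul.toAddMonoidHom E (x ^ 1)) c a]
        exact Submodule.smul_mem _ _ ha
    have hle : orbSpan x v ≤ S.toAddSubgroup := by
      rw [orbSpan, AddSubgroup.closure_le]
      rintro _ ⟨i, rfl⟩
      induction i with
      | zero => show x ^ 0 • v ∈ S; rw [pow_zero, one_smul]; exact Submodule.subset_span (by simp)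
      | succ i ih =>
        show x ^ (i + 1) • v ∈ S
        rw [pow_succ', mul_smul, ← pow_one x]
        exact hS _ (by rw [pow_one]; exact ih)
    refine (Nat.card_mono (Set.toFinite _) hle).trans ?_
    have hfr : Module.finrank (ZMod 2) S ≤ 3 := by
      refine (finrank_span_le_card _).trans ?_
      rw [Set.toFinset_card, ← Nat.card_eq_fintype_card, Nat.card_coe_set_eq]
      exact (Set.ncard_insert_le _ _).trans (Nat.add_le_add_right ((Set.ncard_insert_le _ _).trans (by simp)) 1)
    rw [show Nat.card (S.toAddSubgroup : Set E) = Nat.card S from rfl, Module.natCard_eq_pow_finrank (K := ZMod 2),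
      Nat.card_zmod]
    exact Nat.pow_le_pow_right (by norm_num) hfr
  have h8 : ∀ v : E, v ≠ 0 → Nat.card (orbSpan x v) = 8 := by
    intro v hv
    obtain ⟨m, hm0, -, hme, hmd⟩ := hspan_card v hv
    have hle := hle8 v
    rw [hme] at hle ⊢
    have hm3 : m ≤ 3 := by
      by_contra h
      have : 2 ^ 4 ≤ 2 ^ m := Nat.pow_le_pow_right (by norm_num) (by omega)
      omega
    interval_cases m
    · norm_num at hmd
    · norm_num at hmd
    · norm_num
  -- semiregular
  haveI hRc : IsMulCommutative (R : Subgroup D) :=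
    Cfsg.Lib.OddChar.Blichfeldt.abelian_of_small hρ (by omega : d < 7) R.2
  have hRcomm : ∀ a ∈ (R : Subgroup D), ∀ b ∈ (R : Subgroup D), a * b = b * a := fun a ha b hb =>
    congrArg Subtype.val (hRc.is_comm.comm ⟨a, ha⟩ ⟨b, hb⟩)
  have hRs : Semireg (R : Subgroup D) E := semireg_of_normal_abelian htrans _ hRcomm
  have h7R : ∀ c : D, c ^ 7 = 1 → c ∈ (R : Subgroup D) := fun c hc => by
    obtain ⟨Q, hQ⟩ := (IsPGroup.of_card (p := 7) (n := ((orderOf c).factorization 7))
      (G := zpowers c) (by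
        rw [Nat.card_zpowers]
        obtain ⟨i, -, hi⟩ := (Nat.dvd_prime_pow hr).1 ((orderOf_dvd_of_pow_eq_one hc).trans (pow_one 7).symm.dvd)
        rw [hi, Nat.Prime.factorization_pow hr, Finsupp.single_eq_same])).exists_le_sylow
    haveI := Sylow.unique_of_normal R hRn
    rw [Subsingleton.elim Q R] at hQ
    exact hQ (mem_zpowers c)
  have hCs : Semireg C E := by
    intro c hc v hv hcv
    have hcx : Commute c x := Subgroup.mem_centralizer_singleton_iff.1 hc
    set W := orbSpan x v with hW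
    have hcW := mem_centralizer_fix hc hcv
    obtain ⟨w, hw⟩ : ∃ w, w ∉ W := by
      by_contra h
      push Not at h
      have := h8 v hv
      rw [← hW, (AddSubgroup.eq_top_iff' W).2 h, AddSubgroup.card_top, hn] at this
      norm_num at this
    have hw0 : w ≠ 0 := fun h => hw (h ▸ zero_mem _)
    set W' := orbSpan x w with hW'
    have hWinv : ∀ i : ℕ, ∀ u ∈ W, x ^ i • u ∈ W := fun i u hu => by
      induction i with
      | zero => simpa using hu
      | succ i ih => rw [pow_succ', mul_smul]; exact orbSpan_smul x v ih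
    have hdisj : W ⊓ W' = ⊥ := by
      rw [AddSubgroup.eq_bot_iff_forall]
      intro u hu
      by_contra hu0
      have hle : orbSpan x u ≤ W ⊓ W' := by
        rw [orbSpan, AddSubgroup.closure_le]
        rintro _ ⟨i, rfl⟩
        induction i with
        | zero => simpa using hu
        | succ i ih =>
          show x ^ (i + 1) • u ∈ W ⊓ W'
          rw [pow_succ', mul_smul]
          exact ⟨orbSpan_smul x v ih.1, orbSpan_smul x w ih.2⟩
      have e1 : orbSpan x u = W' := AddSubgroup.eq_of_le_of_card_ge (hle.trans inf_le_right)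
        (by rw [hW', h8 w hw0, h8 u hu0])
      exact hw ((hle.trans inf_le_left) (e1 ▸ mem_orbSpan_self x w))
    have hsup : W ⊔ W' = ⊤ := by
      let φ : W × W' → E := fun p => (p.1 : E) + p.2
      have hφ : Function.Injective φ := by
        rintro ⟨a, b⟩ ⟨a', b'⟩ h
        have h' : (a : E) - a' = b' - b := by
          simp only [φ] at h
          rw [sub_eq_sub_iff_add_eq_add, h]; abel
        have hz : (a : E) - a' ∈ W ⊓ W' := ⟨W.sub_mem a.2 a'.2, h' ▸ W'.sub_mem b'.2 b.2⟩
        rw [hdisj, AddSubgroup.mem_bot, sub_eq_zero] at hz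
        rw [hz, sub_self, eq_comm, sub_eq_zero] at h'
        rw [Prod.mk.injEq]
        exact ⟨Subtype.ext hz, Subtype.ext h'.symm⟩
      have hsurj : Function.Surjective φ := ((Nat.bijective_iff_injective_and_card φ).2 ⟨hφ, by
        rw [Nat.card_prod, hW, hW', h8 v hv, h8 w hw0, hn]; rfl⟩).2
      rw [AddSubgroup.eq_top_iff']
      intro u
      obtain ⟨⟨a, b⟩, rfl⟩ := hsurj u
      exact AddSubgroup.mem_sup.2 ⟨a, a.2, b, b.2, rfl⟩
    -- `c` moves `w` by a power of `x` modulo `W`
    obtain ⟨a, ha, b, hb, hab⟩ := AddSubgroup.mem_sup.1 (hsup ▸ AddSubgroup.mem_top (c • w))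
    have hb0 : b ≠ 0 := by
      rintro rfl
      rw [add_zero] at hab
      have h : c • a = a := hcW a ha
      rw [hab] at h
      exact hw ((MulAction.injective c h) ▸ hab ▸ ha)
    obtain ⟨j, hj⟩ : ∃ j : ℕ, x ^ j • w = b := by
      let g : Fin 7 → {u : W' // (u : E) ≠ 0} := fun i => ⟨⟨x ^ (i : ℕ) • w,
        AddSubgroup.subset_closure ⟨i, rfl⟩⟩, fun h => hw0 (by simpa [smul_eq_iff_eq_inv_smul] using h)⟩
      have hg : Function.Injective g := by
        intro i i' h
        have h' : x ^ (i : ℕ) • w = x ^ (i' : ℕ) • w := congrArg (fun z : {u : W' // (u : E) ≠ 0} => ((z.1 : W') : E)) h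
        have h'' : ((x ^ (i' : ℕ))⁻¹ * x ^ (i : ℕ)) • w = w := by rw [mul_smul, h', inv_smul_smul]
        have h1 := hZs _ (mul_mem (inv_mem (pow_mem xz.2 _)) (pow_mem xz.2 _)) w hw0 h''
        rw [inv_mul_eq_one, eq_comm, pow_eq_pow_iff_modEq, hx] at h1
        exact Fin.ext (Nat.ModEq.eq_of_lt_of_lt h1 i.isLt i'.isLt)
      have hcard : Nat.card {u : W' // (u : E) ≠ 0} = 7 := by
        have h1 : ({u : W' | (u : E) ≠ 0} : Set W') = {(0 : W')}ᶜ := by
          ext u; simp
        rw [show Nat.card {u : W' // (u : E) ≠ 0} = ({u : W' | (u : E) ≠ 0} : Set W').ncard from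
          Nat.card_coe_set_eq _, h1, Set.ncard_compl, Set.ncard_singleton, hW', h8 w hw0]
      obtain ⟨i, hi⟩ := ((Nat.bijective_iff_injective_and_card g).2 ⟨hg, by rw [hcard, Nat.card_fin]⟩).2 ⟨⟨b, hb⟩, hb0⟩
      exact ⟨i, congrArg (fun z : {u : W' // (u : E) ≠ 0} => ((z.1 : W') : E)) hi⟩
    have hiter : ∀ k : ℕ, ∃ a' ∈ W, c ^ k • w = a' + x ^ (j * k) • w := by
      intro k
      induction k with
      | zero => exact ⟨0, zero_mem _, by simp⟩
      | succ k ih =>
        obtain ⟨a', ha', e⟩ := ih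
        refine ⟨a' + x ^ (j * k) • a, add_mem ha' (hWinv _ a ha), ?_⟩
        rw [pow_succ', mul_smul, e, smul_add, hcW a' ha', ← mul_smul, (hcx.pow_right _).eq, mul_smul, ← hab,
          smul_add, ← hj, ← mul_smul, ← pow_add, ← add_assoc, show j * (k + 1) = j * k + j by ring]
    obtain ⟨a', ha', e7⟩ := hiter 7
    rw [pow_mul', hxr, one_pow, one_smul] at e7
    have hc7W : ∀ u ∈ W, c ^ 7 • u = u := fun u hu =>
      MulAction.mem_stabilizer_iff.1 (pow_mem (show c ∈ stabilizer D u from hcW u hu) 7)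
    have hc14 : c ^ 14 = 1 := by
      apply eq_of_smul_eq_smul (α := E)
      intro u
      rw [one_smul]
      obtain ⟨a1, ha1, b1, hb1, rfl⟩ := AddSubgroup.mem_sup.1 (hsup ▸ AddSubgroup.mem_top u)
      have hw14 : c ^ 14 • w = w := by
        rw [show (14 : ℕ) = 7 + 7 from rfl, pow_add, mul_smul, e7, smul_add, hc7W a' ha', e7, ← add_assoc, hadd,
          zero_add]
      rw [smul_add, show c ^ 14 • a1 = a1 by rw [show (14 : ℕ) = 7 + 7 from rfl, pow_add, mul_smul, hc7W a1 ha1, hc7W a1 ha1],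
        mem_centralizer_fix (pow_mem hc 14) hw14 b1 hb1]
    have hc7 : c ^ 7 = 1 := by
      have hd : orderOf c ∣ 7 * 2 := orderOf_dvd_of_pow_eq_one hc14
      have ho : Odd (orderOf c) := hodd.of_dvd_nat (_root_.orderOf_dvd_natCard c)
      exact orderOf_dvd_iff_pow_eq_one.1 ((Nat.Coprime.dvd_mul_right (Nat.coprime_two_right.2 ho)).1 hd)
    exact hRs c (h7R c hc7) v hv hcv
  refine ⟨hCs, ?_⟩
  -- commutative
  letI : MulAction C {e : E // e ≠ 0} :=
    { smul := fun c e => ⟨(c : D) • (e : E), fun h => e.2 (by simpa [smul_eq_iff_eq_inv_smul] using h)⟩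
      one_smul := fun e => Subtype.ext (one_smul D (e : E))
      mul_smul := fun a b e => Subtype.ext (mul_smul (a : D) b (e : E)) }
  have hCdvd : Nat.card C ∣ 63 := by
    have h63 : Nat.card {e : E // e ≠ 0} = 63 := by
      rw [show Nat.card {e : E // e ≠ 0} = ({(0 : E)}ᶜ : Set E).ncard from Nat.card_coe_set_eq _,
        Set.ncard_compl, Set.ncard_singleton, hn]
      rfl
    haveI := Fintype.ofFinite (Quotient (orbitRel C {e : E // e ≠ 0}))
    rw [← h63, Nat.card_congr (MulAction.selfEquivSigmaOrbitsQuotientStabilizer C {e : E // e ≠ 0}), Nat.card_sigma]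
    refine Finset.dvd_sum fun ω _ => ?_
    have hbot : stabilizer C ω.out = ⊥ := by
      rw [Subgroup.eq_bot_iff_forall]
      intro c hc
      exact Subtype.ext (hCs c c.2 _ ω.out.2 (congrArg Subtype.val hc))
    have h1 : Nat.card (C ⧸ stabilizer C ω.out) = Nat.card C := by
      rw [← Subgroup.index_eq_card, hbot, Subgroup.index_bot]
    exact h1 ▸ dvd_refl _
  have hRC : (R : Subgroup D) ≤ C := fun a ha =>
    Subgroup.mem_centralizer_singleton_iff.2 (hRcomm a ha x (h7R x hxr))
  set R' := (R : Subgroup D).subgroupOf C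
  have hRx : (R : Subgroup D) = zpowers x := by
    have hR7 : Nat.card (R : Subgroup D) ∣ 7 := by
      obtain ⟨i, hi⟩ := IsPGroup.iff_card.1 R.2
      have h63 : Nat.card (R : Subgroup D) ∣ 63 := (Subgroup.card_dvd_of_le hRC).trans hCdvd
      rw [hi] at h63 ⊢
      rcases i with _ | _ | i
      · exact one_dvd _
      · exact dvd_refl _
      · exact absurd ((pow_dvd_pow 7 (show 2 ≤ i + 1 + 1 by omega)).trans h63) (by norm_num)
    refine (Subgroup.eq_of_le_of_card_ge (zpowers_le.2 (h7R x hxr)) ?_).symm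
    rw [Nat.card_zpowers, hx]
    exact Nat.le_of_dvd (by norm_num) hR7
  have hzc : ∀ y ∈ (R : Subgroup D), ∀ c ∈ C, c * y = y * c := fun y hy c hc => by
    rw [hRx] at hy
    obtain ⟨i, rfl⟩ := hy
    exact ((show Commute c x from Subgroup.mem_centralizer_singleton_iff.1 hc).zpow_right i).eq
  have hab : ∀ a ∈ C, ∀ b ∈ C, a * b * a⁻¹ * b⁻¹ ∈ (R : Subgroup D) := by
    haveI : R'.Normal := (inferInstance : (R : Subgroup D).Normal).subgroupOf C
    have h9 : Nat.card (C ⧸ R') ∣ 9 := by
      have h := R'.card_mul_index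
      rw [Nat.card_congr (Subgroup.subgroupOfEquivOfLe hRC).toEquiv, hRx, Nat.card_zpowers, hx, Subgroup.index_eq_card] at h
      exact Nat.dvd_of_mul_dvd_mul_left (show 0 < 7 by norm_num) (h ▸ hCdvd)
    haveI := Fact.mk Nat.prime_three
    have hcomm : ∀ p q : C ⧸ R', p * q = q * p := by
      obtain ⟨i, hi, hic⟩ := (Nat.dvd_prime_pow Nat.prime_three).1 (show Nat.card (C ⧸ R') ∣ 3 ^ 2 from h9)
      intro p q
      interval_cases i
      · haveI := (Nat.card_eq_one_iff_unique.1 (hic.trans (pow_zero 3))).1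
        exact Subsingleton.elim _ _
      · haveI := isCyclic_of_prime_card (hic.trans (pow_one 3))
        haveI : IsMulCommutative (C ⧸ R') := IsCyclic.isMulCommutative
        exact mul_comm' p q
      · haveI := IsPGroup.isMulCommutative_of_card_eq_prime_sq (p := 3) hic
        exact mul_comm' p q
    intro a ha b hb
    have h := hcomm (QuotientGroup.mk (⟨a, ha⟩ : C)) (QuotientGroup.mk ⟨b, hb⟩)
    have h' : QuotientGroup.mk ((⟨a, ha⟩ : C) * ⟨b, hb⟩ * ⟨a, ha⟩⁻¹ * ⟨b, hb⟩⁻¹) = (1 : C ⧸ R') := by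
      simp only [QuotientGroup.mk_mul, QuotientGroup.mk_inv]
      rw [h]
      group
    exact Subgroup.mem_subgroupOf.1 ((QuotientGroup.eq_one_iff _).1 h')
  intro a ha b hb
  set z := a * b * a⁻¹ * b⁻¹ with hz
  have hzR := hab a ha b hb
  have hz7 : z ^ 7 = 1 := by
    rw [hRx] at hzR
    obtain ⟨i, hi⟩ := hzR
    rw [hz, ← hi, ← zpow_natCast (x ^ i), ← zpow_mul, mul_comm, zpow_mul, zpow_natCast, hxr, one_zpow]
  have hb9 : b ^ 9 ∈ (R : Subgroup D) := h7R _ (by
    rw [← pow_mul]
    exact orderOf_dvd_iff_pow_eq_one.1 ((Subgroup.orderOf_dvd_natCard C hb).trans hCdvd))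
  have hconj : a * b * a⁻¹ = z * b := by rw [hz]; group
  have hzb : Commute z b := (hzc z hzR b hb).symm
  have hz9 : z ^ 9 = 1 := by
    have h := congrArg (· ^ 9) hconj
    simp only [conj_pow, hzb.mul_pow] at h
    rw [hzc _ hb9 a ha, mul_inv_cancel_right] at h
    exact (mul_eq_right.1 h.symm)
  have hz1 : z = 1 := by
    have h := pow_gcd_eq_one.2 ⟨hz9, hz7⟩
    simpa using h
  rw [hz] at hz1
  exact commutatorElement_eq_one_iff_mul_comm.1 (by rw [commutatorElement_def]; exact hz1)

end Cfsg.Lib.LinearPerm.OddTrans
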