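import Mathlib

/-! # SL_n moves independent tuples of fewer than n vectors to standard ones -/

namespace Cfsg.Lib.LinearPerm

open Matrix

variable {F : Type*} [Field F]

/-- An independent tuple of fewer than `n` vectors is the start of the columns of some element of
the special linear group. -/
theorem exists_sl_cols {n m : ℕ} (hm : m < n) (v : Fin m → Fin n → F)
    (hv : LinearIndependent F v) :
    ∃ g : Matrix.SpecialLinearGroup (Fin n) F, ∀ i : Fin m,
      (g : Matrix (Fin n) (Fin n) F).mulVec (Pi.single (Fin.castLE hm.le i) 1) = v i := by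
  classical
  let b := Module.Basis.sumExtend hv
  have hb : ∀ i, b (Sum.inl i) = v i := fun i => by
    simp [b, Module.Basis.sumExtend, Equiv.symm_symm]; rfl
  have : Fintype (Fin m ⊕ Module.Basis.sumExtendIndex hv) := Module.Basis.fintypeIndexOfRankLtAleph0 b
    (Module.rank_lt_aleph0 F _)
  have hcard : Nat.card (Fin m ⊕ Module.Basis.sumExtendIndex hv) = n := by
    rw [← Module.finrank_eq_nat_card_basis b]; simp
  have : Finite (Module.Basis.sumExtendIndex hv) := Finite.of_injective (Sum.inr : _ → Fin m ⊕ _)
    Sum.inr_injective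
  have hc2 : Nat.card (Module.Basis.sumExtendIndex hv) = n - m := by
    rw [Nat.card_sum, Nat.card_fin] at hcard; omega
  let σ : Fin m ⊕ Module.Basis.sumExtendIndex hv ≃ Fin n :=
    (Equiv.sumCongr (Equiv.refl _) (Finite.equivFinOfCardEq hc2)).trans
      (finSumFinEquiv.trans (finCongr (by omega)))
  have hσ : ∀ i, σ (Sum.inl i) = Fin.castLE hm.le i := fun i => Fin.ext (by simp [σ])
  let b' := b.reindex σ
  have hb' : ∀ i, b' (Fin.castLE hm.le i) = v i := fun i => by
    rw [← hσ]; simp [b', hb]
  let A : Matrix (Fin n) (Fin n) F := Matrix.of fun r c => b' c r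
  have hdet : A.det ≠ 0 := by
    have h := (Pi.basisFun F (Fin n)).isUnit_det b'
    have hA : (Pi.basisFun F (Fin n)).det b' = A.det := by
      rw [Module.Basis.det_apply]; congr 1
    rw [hA] at h
    exact h.ne_zero
  let last : Fin n := ⟨n - 1, by omega⟩
  refine ⟨⟨A.updateCol last (A.det⁻¹ • A.col last), ?_⟩, fun i => ?_⟩
  · rw [Matrix.det_updateCol_smul]
    have hc : A.col last = fun i => A i last := rfl
    rw [hc, Matrix.updateCol_eq_self, inv_mul_cancel₀ hdet]
  · have hne : Fin.castLE hm.le i ≠ last := by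
      intro h
      have := congrArg Fin.val h
      simp [last] at this
      omega
    funext r
    simp [Matrix.mulVec_single_one, Matrix.updateCol_apply, hne, A, hb']

/-- The linear action on non-zero vectors. -/
abbrev NonzeroVec (F : Type*) [Field F] (n : ℕ) : Type _ := {v : Fin n → F // v ≠ 0}

instance instMulActionNonzeroVec {n : ℕ} :
    MulAction (Matrix.SpecialLinearGroup (Fin n) F) (NonzeroVec F n) where
  smul g v := ⟨(g : Matrix (Fin n) (Fin n) F).mulVec v.1, fun h => v.2 (by
    have := congrArg ((g⁻¹ : Matrix.SpecialLinearGroup (Fin n) F) : Matrix (Fin n) (Fin n) F).mulVec h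
    rwa [Matrix.mulVec_mulVec, ← Matrix.SpecialLinearGroup.coe_mul, inv_mul_cancel,
      Matrix.SpecialLinearGroup.coe_one, Matrix.one_mulVec, Matrix.mulVec_zero] at this)⟩
  one_smul v := Subtype.ext (by
    show ((1 : Matrix.SpecialLinearGroup (Fin n) F) : Matrix (Fin n) (Fin n) F).mulVec v.1 = v.1
    simp)
  mul_smul g h v := Subtype.ext (by
    show ((g * h : Matrix.SpecialLinearGroup (Fin n) F) : Matrix (Fin n) (Fin n) F).mulVec v.1 = _
    rw [Matrix.SpecialLinearGroup.coe_mul, ← Matrix.mulVec_mulVec]
    rfl)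

@[simp] theorem smul_val {n : ℕ} (g : Matrix.SpecialLinearGroup (Fin n) F) (v : NonzeroVec F n) :
    (g • v).1 = (g : Matrix (Fin n) (Fin n) F).mulVec v.1 := rfl

/-- The scalar action of a unit. -/
def scal {n : ℕ} (c : Fˣ) (v : NonzeroVec F n) : NonzeroVec F n :=
  ⟨(c : F) • v.1, smul_ne_zero c.ne_zero v.2⟩

theorem scal_smul {n : ℕ} (c : Fˣ) (g : Matrix.SpecialLinearGroup (Fin n) F) (v : NonzeroVec F n) :
    g • scal c v = scal c (g • v) := Subtype.ext (by simp [scal, Matrix.mulVec_smul])

theorem scal_scal {n : ℕ} (c d : Fˣ) (v : NonzeroVec F n) :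
    scal c (scal d v) = scal (c * d) v := Subtype.ext (by simp [scal, smul_smul])

@[simp] theorem scal_one {n : ℕ} (v : NonzeroVec F n) : scal 1 v = v :=
  Subtype.ext (by simp [scal])

theorem scal_left_injective {n : ℕ} (v : NonzeroVec F n) :
    Function.Injective (fun c : Fˣ => scal c v) := fun c d h =>
  Units.ext (smul_left_injective F v.2 (congrArg Subtype.val h))

theorem transitive {n : ℕ} (hn : 2 ≤ n) (v w : NonzeroVec F n) :
    ∃ g : Matrix.SpecialLinearGroup (Fin n) F, g • v = w := by
  obtain ⟨g₁, h₁⟩ := exists_sl_cols (show 1 < n by omega) ![v.1] (by simp [v.2])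
  obtain ⟨g₂, h₂⟩ := exists_sl_cols (show 1 < n by omega) ![w.1] (by simp [w.2])
  let e : NonzeroVec F n := ⟨Pi.single (Fin.castLE (show 1 ≤ n by omega) 0) 1, by simp⟩
  have e₁ : g₁ • e = v := Subtype.ext (h₁ 0)
  have e₂ : g₂ • e = w := Subtype.ext (h₂ 0)
  exact ⟨g₂ * g₁⁻¹, by rw [mul_smul, ← e₁, inv_smul_smul, e₂]⟩

theorem card_pair_orbits [Finite F] {n : ℕ} (hn : 3 ≤ n) :
    Nat.card (MulAction.orbitRel.Quotient (Matrix.SpecialLinearGroup (Fin n) F)
      (NonzeroVec F n × NonzeroVec F n)) = Nat.card F := by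
  classical
  let e : NonzeroVec F n := ⟨Pi.single (Fin.castLE (show 2 ≤ n by omega) 0) 1, by simp⟩
  let e' : NonzeroVec F n := ⟨Pi.single (Fin.castLE (show 2 ≤ n by omega) 1) 1, by simp⟩
  have hee : ∀ c : Fˣ, scal c e ≠ e' := by
    intro c h
    have := congrFun (congrArg Subtype.val h) (Fin.castLE (show 2 ≤ n by omega) 0)
    simp [scal, e, e', Fin.ext_iff] at this
  let pr : Option Fˣ → NonzeroVec F n × NonzeroVec F n := fun o =>
    o.elim (e, e') (fun c => (e, scal c e))
  let f : Option Fˣ → MulAction.orbitRel.Quotient (Matrix.SpecialLinearGroup (Fin n) F)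
      (NonzeroVec F n × NonzeroVec F n) := fun o => Quotient.mk'' (pr o)
  have hbij : Function.Bijective f := by
    constructor
    · intro a b hab
      obtain ⟨g, hg⟩ := MulAction.mem_orbit_iff.1 (MulAction.orbitRel_apply.1 (Quotient.exact' hab))
      rcases a with _ | a <;> rcases b with _ | b
      · rfl
      · exfalso
        simp only [pr, Option.elim, Prod.smul_mk, Prod.mk.injEq] at hg
        obtain ⟨h1, h2⟩ := hg
        rw [scal_smul, h1] at h2
        exact hee b h2
      · exfalso
        simp only [pr, Option.elim, Prod.smul_mk, Prod.mk.injEq] at hg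
        obtain ⟨h1, h2⟩ := hg
        have h3 : g • scal a e = g • e' := by rw [scal_smul, h1, h2]
        exact hee a (MulAction.injective g h3)
      · simp only [pr, Option.elim, Prod.smul_mk, Prod.mk.injEq] at hg
        obtain ⟨h1, h2⟩ := hg
        rw [scal_smul, h1] at h2
        exact congrArg some (scal_left_injective e h2).symm
    · intro q
      induction q using Quotient.inductionOn' with
      | h p =>
        obtain ⟨v, w⟩ := p
        by_cases hd : ∃ c : Fˣ, scal c v = w
        · obtain ⟨c, rfl⟩ := hd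
          obtain ⟨g, hg⟩ := transitive (by omega) v e
          refine ⟨some c, Quotient.sound' (MulAction.orbitRel_apply.2 ⟨g, ?_⟩)⟩
          show g • (v, scal c v) = (e, scal c e)
          rw [Prod.smul_mk, scal_smul, hg]
        · have hli : LinearIndependent F ![v.1, w.1] := by
            rw [LinearIndependent.pair_iff' v.2]
            intro a ha
            rcases eq_or_ne a 0 with rfl | ha0
            · exact w.2 (by simpa using ha.symm)
            · exact hd ⟨Units.mk0 a ha0, Subtype.ext (by simpa [scal] using ha)⟩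
          obtain ⟨g, hg⟩ := exists_sl_cols (show 2 < n by omega) ![v.1, w.1] hli
          refine ⟨none, Quotient.sound' (MulAction.orbitRel_apply.2 ⟨g⁻¹, ?_⟩)⟩
          show g⁻¹ • (v, w) = (e, e')
          have h0 : g • e = v := Subtype.ext (hg 0)
          have h1 : g • e' = w := Subtype.ext (hg 1)
          rw [Prod.smul_mk, ← h0, ← h1, inv_smul_smul, inv_smul_smul]
  rw [← Nat.card_congr (Equiv.ofBijective f hbij), Finite.card_option, Nat.card_units]
  have := Finite.one_lt_card (α := F)
  omega

end Cfsg.Lib.LinearPerm
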